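import Groth.Agent.Lib.CycNorm12.Sheaf
import Groth.Agent.Lib.InvExt.Gen
import Groth.Agent.Lib.Hilb20.Reflexive
import Groth.Agent.Lib.SymHilb26.Descend
import Groth.Agent.Lib.FormalExist7.Tricky
import Mathlib.AlgebraicGeometry.Morphisms.Etale

/-!
# The cyclic cover is étale away from the branch divisor
-/

set_option autoImplicit false
set_option linter.all false
set_option backward.isDefEq.respectTransparency false

universe u

open CategoryTheory CategoryTheory.Limits AlgebraicGeometry Opposite TopologicalSpace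

noncomputable section

namespace GrothLib.CycNorm12

variable {X Y : Scheme.{u}} {L : X.Modules} {N : ℕ} {s : Coh.structureModule X ⟶ CohB1.tensorPow L N} {π : Y ⟶ X}

theorem etale_restrict_of_chart [IsAffineHom π] (R : CycCov.Root L N s π) (hN : 0 < N) (U : X.affineOpens)
    (e : Γ(L, U.1)) (he : CycCov.IsGen L U.1 e) (f : Γ(X, U.1))
    (hf : SecTwist.val s U.1 = f • CycCov.lpow L U.1 e N) (hfu : IsUnit f) (hNU : IsUnit (N : Γ(X, U.1)))
    (hb : Function.Bijective (CycCov.chart R U e he f hf)) : Etale (π ∣_ U.1) := by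
  haveI : IsAffine U.1 := U.2
  haveI : IsAffine (π ⁻¹ᵁ U.1) := U.2.preimage π
  rw [HasRingHomProperty.iff_of_isAffine (P := @Etale), morphismRestrict_appTop, CommRingCat.hom_comp,
    RingHom.Etale.respectsIso.cancel_right_isIso]
  change RingHom.Etale (π.app (U.1.ι ''ᵁ ⊤)).hom
  rw [Scheme.Opens.ι_image_top]
  letI := (π.app U.1).hom.toAlgebra
  rw [show (π.app U.1).hom = algebraMap Γ(X, U.1) Γ(Y, π ⁻¹ᵁ U.1) from rfl, RingHom.etale_algebraMap]
  haveI := RootCover26.etale f hN hfu hNU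
  exact Algebra.Etale.of_equiv (AlgEquiv.ofRingEquiv (f := RingEquiv.ofBijective _ hb) fun x => by
    simp [CycCov.chart, AdjoinRoot.algebraMap_eq]; rfl)

theorem ideal_divIdeal_eq_top {r : ℕ} (D : Fin r → X.IdealSheafData) (α : Fin r → ℕ) (U : X.affineOpens)
    (hU : ∀ j, 0 < α j → Disjoint (U.1 : Set X) ((D j).support : Set X)) :
    (CycCov.divIdeal D α).ideal U = ⊤ := by
  rw [CycCov.divIdeal, SymHilb26.ideal_prod, ← Ideal.one_eq_top]
  refine Finset.prod_eq_one fun j _ => ?_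
  rw [FormalExist7.ideal_pow_apply]
  rcases Nat.eq_zero_or_pos (α j) with h | h
  · rw [h, pow_zero]
  · suffices h2 : (D j).ideal U = ⊤ by rw [h2, ← Ideal.one_eq_top, one_pow]
    by_contra hne
    obtain ⟨m, hm, hle⟩ := Ideal.exists_le_maximal _ hne
    let z := U.2.fromSpec ⟨m, hm.isPrime⟩
    have hzU : z ∈ U.1 := U.2.range_fromSpec.le ⟨⟨m, hm.isPrime⟩, rfl⟩
    refine Set.disjoint_left.1 (hU j h) hzU ?_
    rw [SetLike.mem_coe, Scheme.IdealSheafData.mem_support_iff_of_mem hzU, Scheme.mem_zeroLocus_iff]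
    intro g hg hgz
    have : (⟨m, hm.isPrime⟩ : Spec Γ(X, U.1)) ∈ U.2.fromSpec ⁻¹ᵁ X.basicOpen g := hgz
    rw [U.2.fromSpec_preimage_basicOpen'] at this
    simp at this
    exact this (hle hg)

theorem isUnit_coef {U : X.affineOpens} {e : Γ(L, U.1)} (he : InvExt.IsGen L U.1 e) {f : Γ(X, U.1)}
    (hf : SecTwist.val s U.1 = f • CycCov.lpow L U.1 e N) (I : X.IdealSheafData)
    (hs : CycCov.IsZeroDiv (CohB1.tensorPow L N) s I) (hI : I.ideal U = ⊤) : IsUnit f := by
  have h := hs U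
  rw [hI, Submodule.top_smul] at h
  obtain ⟨b, hb⟩ := Submodule.mem_span_singleton.1 (h.ge (Submodule.mem_top (x := CycCov.lpow L U.1 e N)))
  rw [hf, smul_smul] at hb
  have hg := cycGen (TensorGen.isGen_pw L he N)
  rw [← lpow_eq_pw] at hg
  have : b * f = 1 := hg.1 (hb.trans (one_smul _ _).symm)
  exact ⟨⟨f, b, by rw [mul_comm]; exact this, this⟩, rfl⟩

theorem etale_of_disjoint (k : Type u) [Field k] [IsAlgClosed k] (p : X ⟶ Spec (CommRingCat.of k)) [Smooth p]
    [IsIntegral X] (hL : PicF.IsInvertible L) (R : CycCov.Root L N s π) (hR : CycCov.IsCover R) (hN : 0 < N)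
    (hNk : (N : k) ≠ 0) (I : X.IdealSheafData) (hs : CycCov.IsZeroDiv (CohB1.tensorPow L N) s I)
    (W : X.Opens) (hW : ∀ U : X.affineOpens, U.1 ≤ W → I.ideal U = ⊤) : Etale (π ∣_ W) := by
  letI : X.Over (Spec (CommRingCat.of k)) := ⟨p⟩
  haveI : Smooth (X ↘ Spec (CommRingCat.of k)) := ‹Smooth p›
  have hX : Pi1.IsNormalScheme X := Hilb20.isNormalScheme_of_smooth (k := k)
  haveI : IsFinite π := hR.1
  haveI : NeZero (N : k) := ⟨hNk⟩
  haveI : NeZero N := ⟨hN.ne'⟩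
  obtain ⟨ζ₀, hζ₀⟩ := HasEnoughRootsOfUnity.exists_primitiveRoot k N
  have key : ∀ x : W, ∃ U : X.Opens, x.1 ∈ U ∧ U ≤ W ∧ Etale (π ∣_ U) := by
    intro ⟨x, hx⟩
    obtain ⟨V, e, hxV, he⟩ := InvExt.exists_gen_nhd hL x
    obtain ⟨U, hU, hxU, hUle⟩ := exists_isAffineOpen_mem_and_subset (show x ∈ V ⊓ W from ⟨hxV, hx⟩)
    have hUV : U ≤ V := fun a ha => (hUle ha).1
    have hUW : U ≤ W := fun a ha => (hUle ha).2
    haveI : Nonempty U := ⟨⟨x, hxU⟩⟩
    obtain ⟨f, hf⟩ := exists_coef (s := s) (he.restrict hUV)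
    have hfu := isUnit_coef (U := ⟨U, hU⟩) (he.restrict hUV) hf I hs (hW ⟨U, hU⟩ hUW)
    let κ : k →+* Γ(X, U) := ((Scheme.ΓSpecIso (CommRingCat.of k)).inv ≫ p.appLE ⊤ U le_top).hom
    have hNU : IsUnit (N : Γ(X, U)) := by
      rw [← map_natCast κ N]
      exact (isUnit_iff_ne_zero.2 hNk).map κ
    have hζ := hζ₀.map_of_injective (f := (X.germToFunctionField U).hom.comp κ) (RingHom.injective _)
    exact ⟨U, hxU, hUW, etale_restrict_of_chart R hN ⟨U, hU⟩ _ (cycGen (he.restrict hUV)) f hf hfu hNU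
      (chart_bijective_of_isUnit R hX hR hN ⟨U, hU⟩ _ (he.restrict hUV) f hf hfu hNU (κ ζ₀) hζ)⟩
  choose U hxU hUW hEt using key
  refine IsZariskiLocalAtTarget.of_iSup_eq_top (P := @Etale) (fun x : W => W.ι ⁻¹ᵁ U x)
    (eq_top_iff.2 fun x _ => Opens.mem_iSup.2 ⟨x, hxU x⟩) fun x => ?_
  have e2 : W.ι ''ᵁ (W.ι ⁻¹ᵁ U x) = U x := by
    rw [Scheme.Hom.image_preimage_eq_opensRange_inf, Scheme.Opens.opensRange_ι]
    exact inf_eq_right.2 (hUW x)
  rw [MorphismProperty.arrow_mk_iso_iff @Etale (morphismRestrictRestrict π W _),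
    MorphismProperty.arrow_mk_iso_iff @Etale (morphismRestrictEq π e2)]
  exact hEt x

end GrothLib.CycNorm12
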