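import Groth.Agent.Lib.CycNorm12.Frame
import Groth.Agent.Lib.CycNorm12.Etale
import Groth.Agent.Lib.BlowUp.EffCartier
import Groth.Prelude.Def_LogNCD

/-!
# Local structure of the normalised cyclic cover at one branch component
-/

set_option autoImplicit false
set_option linter.all false
set_option backward.isDefEq.respectTransparency false

universe u

open CategoryTheory AlgebraicGeometry Opposite TopologicalSpace
open GrothLib.InvExt (mres fres)

noncomputable section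

namespace GrothLib.CycNorm12

variable {k : Type u} [Field k] {X Y : Scheme.{u}}

/-- The constants on an open. -/
def kc (f : X ⟶ Spec (CommRingCat.of k)) (U : X.Opens) : k →+* Γ(X, U) :=
  ((Scheme.ΓSpecIso (CommRingCat.of k)).inv ≫ f.appLE ⊤ U le_top).hom

theorem res_kc (f : X ⟶ Spec (CommRingCat.of k)) {U V : X.Opens} (h : V ≤ U) (c : k) :
    X.presheaf.map (homOfLE h).op (kc f U c) = kc f V c :=
  congr($(Scheme.Hom.appLE_map f (le_top : U ≤ f ⁻¹ᵁ ⊤) (homOfLE h).op) ((Scheme.ΓSpecIso (CommRingCat.of k)).inv c))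

theorem app_kc (π : Y ⟶ X) (f : X ⟶ Spec (CommRingCat.of k)) (U : X.Opens) (c : k) :
    (π.app U).hom (kc f U c) = kc (π ≫ f) (π ⁻¹ᵁ U) c := by
  have h := π.appLE_comp_appLE f ⊤ U (π ⁻¹ᵁ U) le_top le_rfl
  rw [← Scheme.Hom.app_eq_appLE] at h
  exact congr($h ((Scheme.ΓSpecIso (CommRingCat.of k)).inv c))

theorem fromSpec_comp (f : X ⟶ Spec (CommRingCat.of k)) {U : X.Opens} (hU : IsAffineOpen U) :
    hU.fromSpec ≫ f = Spec.map (CommRingCat.ofHom (kc f U)) := by
  rw [← IsAffineOpen.SpecMap_appLE_fromSpec f (isAffineOpen_top _) hU (le_top : U ≤ f ⁻¹ᵁ ⊤),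
    IsAffineOpen.fromSpec_top, Scheme.isoSpec_Spec_inv, ← Spec.map_comp]
  rfl

theorem homOfVector_eq (f : X ⟶ Spec (CommRingCat.of k)) (W : X.Opens) {σ : Type u} (v : σ → Γ(W, ⊤))
    (U : X.affineOpens) (h : U.1 ≤ W) :
    letI := (kc f U.1).toAlgebra
    U.2.isoSpec.inv ≫ X.homOfLE h ≫ AffineSpace.homOfVector (W.ι ≫ f) v =
      Spec.map (CommRingCat.ofHom (MvPolynomial.aeval fun i => LogNCD.sectOn W h (v i) :
        MvPolynomial σ k →ₐ[k] Γ(X, U.1)).toRingHom) ≫ (AffineSpace.SpecIso σ (CommRingCat.of k)).inv := by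
  letI := (kc f U.1).toAlgebra
  refine AffineSpace.hom_ext ?_ fun i => ?_
  · rw [Category.assoc, Category.assoc, AffineSpace.homOfVector_over, Category.assoc, AffineSpace.SpecIso_inv_over,
      ← Spec.map_comp, Scheme.homOfLE_ι_assoc, IsAffineOpen.isoSpec_inv_ι_assoc, fromSpec_comp f U.2]
    congr 2
    refine RingHom.ext fun c => ?_
    exact (AlgHom.commutes (MvPolynomial.aeval fun i => LogNCD.sectOn W h (v i) : MvPolynomial σ k →ₐ[k] Γ(X, U.1)) c).symm
  · rw [Scheme.Hom.comp_appTop, Scheme.Hom.comp_appTop, CommRingCat.comp_apply, CommRingCat.comp_apply,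
      AffineSpace.homOfVector_appTop_coord, Scheme.Hom.comp_appTop, CommRingCat.comp_apply,
      AffineSpace.SpecIso_inv_appTop_coord, ← CommRingCat.comp_apply (Scheme.ΓSpecIso _).inv,
      ← Scheme.ΓSpecIso_inv_naturality, IsAffineOpen.isoSpec_inv_appTop, CommRingCat.comp_apply, CommRingCat.comp_apply]
    congr 1
    simp only [CommRingCat.hom_ofHom, AlgHom.toRingHom_eq_coe, RingHom.coe_coe, MvPolynomial.aeval_X]
    show (U.1.topIso.hom) ((X.homOfLE h).appTop (v i)) = LogNCD.sectOn W h (v i)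
    rw [LogNCD.sectOn_apply, ← CommRingCat.comp_apply, ← CommRingCat.comp_apply]
    congr 2
    simp [Scheme.Opens.topIso_hom, Scheme.homOfLE_app, ← Functor.map_comp]

theorem isCoord_of_etale (f : X ⟶ Spec (CommRingCat.of k)) (W : X.Opens) {σ : Type u} (v : σ → Γ(W, ⊤))
    [Etale (AffineSpace.homOfVector (W.ι ≫ f) v)] (U : X.affineOpens) (h : U.1 ≤ W) :
    letI := (kc f U.1).toAlgebra
    IsCoord k fun i => LogNCD.sectOn W h (v i) := by
  letI := (kc f U.1).toAlgebra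
  have e := homOfVector_eq f W v U h
  haveI : Etale (U.2.isoSpec.inv ≫ X.homOfLE h ≫ AffineSpace.homOfVector (W.ι ≫ f) v) := inferInstance
  rw [e, MorphismProperty.cancel_right_of_respectsIso (P := @Etale), HasRingHomProperty.Spec_iff (P := @Etale)] at this
  exact this

theorem etale_of_isCoord (f : X ⟶ Spec (CommRingCat.of k)) (U : X.affineOpens) {σ : Type u} (x : σ → Γ(X, U.1))
    (hx : letI := (kc f U.1).toAlgebra; IsCoord k x) :
    Etale (AffineSpace.homOfVector (U.1.ι ≫ f) fun i => U.1.topIso.inv (x i)) := by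
  letI := (kc f U.1).toAlgebra
  have e := homOfVector_eq f U.1 (fun i => U.1.topIso.inv (x i)) U le_rfl
  have hs : (fun i => LogNCD.sectOn U.1 (le_refl U.1) (U.1.topIso.inv (x i))) = x := funext fun i => by
    rw [LogNCD.sectOn_apply, ← CommRingCat.comp_apply U.1.topIso.inv, Iso.inv_hom_id]
    simp
  rw [hs, show X.homOfLE (le_refl U.1) = 𝟙 _ from X.homOfLE_rfl _, Category.id_comp] at e
  have hE : Etale (Spec.map (CommRingCat.ofHom (MvPolynomial.aeval x : MvPolynomial σ k →ₐ[k] Γ(X, U.1)).toRingHom)) := by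
    rw [HasRingHomProperty.Spec_iff (P := @Etale)]; exact hx
  rw [← MorphismProperty.cancel_left_of_respectsIso @Etale U.2.isoSpec.inv, e,
    MorphismProperty.cancel_right_of_respectsIso (P := @Etale)]
  exact hE

theorem smooth_of_isCoord (f : X ⟶ Spec (CommRingCat.of k)) (U : X.affineOpens) {σ : Type u} [Finite σ]
    (x : σ → Γ(X, U.1)) (hx : letI := (kc f U.1).toAlgebra; IsCoord k x) : Smooth (U.1.ι ≫ f) := by
  letI := (kc f U.1).toAlgebra
  haveI : Smooth (Spec.map (CommRingCat.ofHom (kc f U.1))) := by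
    rw [HasRingHomProperty.Spec_iff (P := @Smooth)]
    exact RingHom.smooth_algebraMap.2 hx.smooth
  rw [← IsAffineOpen.isoSpec_hom_fromSpec U.2, Category.assoc, fromSpec_comp f U.2]
  infer_instance

/-- Ideal sheaves agreeing near each point of an affine open agree on it. -/
theorem ideal_eq_of_local {I J : X.IdealSheafData} (V : X.affineOpens)
    (h : ∀ x ∈ V.1, ∃ A : X.affineOpens, x ∈ A.1 ∧ I.ideal A = J.ideal A) : I.ideal V = J.ideal V := by
  have key : I.comap V.1.ι = J.comap V.1.ι := by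
    choose A hxA hA using h
    choose A' hA' hxA' hle' using fun x : V.1.toScheme =>
      exists_isAffineOpen_mem_and_subset (show x ∈ V.1.ι ⁻¹ᵁ (A x.1 x.2).1 from hxA x.1 x.2)
    refine Scheme.IdealSheafData.ext_of_iSup_eq_top (fun x => (⟨A' x, hA' x⟩ : V.1.toScheme.affineOpens))
      (top_unique fun x _ => Opens.mem_iSup.2 ⟨x, hxA' x⟩) fun x => ?_
    rw [BlowUp.ideal_comap_eq_map I V.1.ι (A x.1 x.2) ⟨A' x, hA' x⟩ (hle' x),
      BlowUp.ideal_comap_eq_map J V.1.ι (A x.1 x.2) ⟨A' x, hA' x⟩ (hle' x), hA]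
  haveI : IsAffine V.1.toScheme := V.2
  let T : V.1.toScheme.affineOpens := ⟨⊤, isAffineOpen_top _⟩
  have h2 := congrArg (fun K => K.ideal T) key
  simp only [BlowUp.ideal_comap_eq_map _ V.1.ι V T (fun a _ => a.2)] at h2
  have hb : Function.Bijective (V.1.ι.appLE V.1 ⊤ (fun a _ => a.2)).hom := by
    haveI : IsIso (V.1.ι.appLE V.1 ⊤ (fun a _ => a.2)) := by
      rw [Scheme.Opens.ι_appLE, Subsingleton.elim (homOfLE _).op
        (eqToHom (congrArg op (V.1.ι_image_top (X := X)).symm))]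
      infer_instance
    exact ConcreteCategory.bijective_of_isIso (V.1.ι.appLE V.1 ⊤ (fun a _ => a.2))
  refine le_antisymm (fun a ha => ?_) (fun a ha => ?_)
  · rw [← Ideal.comap_map_of_bijective _ hb (I := J.ideal V), ← h2]
    exact Ideal.le_comap_map ha
  · rw [← Ideal.comap_map_of_bijective _ hb (I := I.ideal V), h2]
    exact Ideal.le_comap_map ha

theorem ideal_eq_top_of_disjoint (I : X.IdealSheafData) (U : X.affineOpens)
    (hU : Disjoint (U.1 : Set X) (I.support : Set X)) : I.ideal U = ⊤ := by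
  simpa [CycCov.divIdeal, SymHilb26.ideal_prod, FormalExist7.ideal_pow_apply] using
    ideal_divIdeal_eq_top (fun _ : Fin 1 => I) (fun _ => 1) U (fun _ _ => hU)

theorem comap_ideal_preimage (π : Y ⟶ X) [IsAffineHom π] (I : X.IdealSheafData) (U : X.affineOpens) :
    (I.comap π).ideal ⟨π ⁻¹ᵁ U.1, U.2.preimage π⟩ = (I.ideal U).map (π.app U.1).hom := by
  rw [BlowUp.ideal_comap_eq_map I π U _ le_rfl, ← Scheme.Hom.app_eq_appLE]

variable {L : X.Modules} {N : ℕ} {s : Coh.structureModule X ⟶ CohB1.tensorPow L N} {π : Y ⟶ X}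

theorem ideal_divIdeal_eq_span {r : ℕ} (D : Fin r → X.IdealSheafData) (α : Fin r → ℕ) (U : X.affineOpens)
    (j : Fin r) (g : Γ(X, U.1)) (hj : (D j).ideal U = Ideal.span {g})
    (ho : ∀ i, i ≠ j → 0 < α i → (D i).ideal U = ⊤) :
    (CycCov.divIdeal D α).ideal U = Ideal.span {g ^ α j} := by
  rw [CycCov.divIdeal, SymHilb26.ideal_prod, Finset.prod_eq_single j]
  · rw [FormalExist7.ideal_pow_apply, hj, Ideal.span_singleton_pow]
  · intro i _ hi
    rw [FormalExist7.ideal_pow_apply]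
    rcases Nat.eq_zero_or_pos (α i) with h | h
    · rw [h, pow_zero]
    · rw [ho i hi h, ← Ideal.one_eq_top, one_pow]
  · exact fun h => absurd (Finset.mem_univ j) h

theorem exists_unit_coef [IsIntegral X] {U : X.affineOpens} [Nonempty U.1] {e : Γ(L, U.1)} (he : InvExt.IsGen L U.1 e)
    {f : Γ(X, U.1)} (hf : SecTwist.val s U.1 = f • CycCov.lpow L U.1 e N) (I : X.IdealSheafData)
    (hs : CycCov.IsZeroDiv (CohB1.tensorPow L N) s I) (G : Γ(X, U.1)) (hG : G ≠ 0) (hI : I.ideal U = Ideal.span {G}) :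
    ∃ v, IsUnit v ∧ f = v * G := by
  have hg := cycGen (TensorGen.isGen_pw L he N)
  rw [← lpow_eq_pw] at hg
  have h := hs U
  rw [hI, show (⊤ : Submodule Γ(X, U.1) ((CohB1.tensorPow L N).val.obj (op U.1))) =
    Submodule.span Γ(X, U.1) {CycCov.lpow L U.1 e N} from
      (Submodule.eq_top_iff'.2 fun y => Submodule.mem_span_singleton.2 (hg.2 y)).symm] at h
  obtain ⟨a, ha, hae⟩ := Submodule.mem_smul_span_singleton.1 (h.le (Submodule.mem_span_singleton_self _))
  obtain ⟨v, rfl⟩ := Ideal.mem_span_singleton.1 ha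
  have hfv : f = G * v := hg.1 (hf.symm.trans hae.symm)
  obtain ⟨c, hc⟩ := Submodule.mem_span_singleton.1 (h.ge (Submodule.smul_mem_smul (Ideal.mem_span_singleton_self G)
    (Submodule.mem_span_singleton_self _)))
  rw [hf, smul_smul] at hc
  have h1 : c * f = G := hg.1 hc
  refine ⟨v, IsUnit.of_mul_eq_one c (mul_left_cancel₀ hG ?_), hfv.trans (mul_comm _ _)⟩
  rw [mul_one]
  linear_combination h1 - c * hfv

/-- Local coordinates on the cover at a point of a branch component. -/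
theorem exists_local [IsAlgClosed k] (f : X ⟶ Spec (CommRingCat.of k)) [Smooth f] [IsIntegral X]
    (hL : PicF.IsInvertible L) (hN : 0 < N) (hNk : (N : k) ≠ 0) {r : ℕ} (D : Fin r → X.IdealSheafData)
    (α : Fin r → ℕ) (hD : LogNCD.IsNCD D f)
    (hs : CycCov.IsZeroDiv (CohB1.tensorPow L N) s (CycCov.divIdeal D α)) (R : CycCov.Root L N s π)
    (hR : CycCov.IsCover R) (x : X) (j₀ : Fin r) (hxj : x ∈ (D j₀).support)
    (hone : ∀ i i', 0 < α i → 0 < α i' → x ∈ (D i).support → x ∈ (D i').support → i = i')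
    (W : X.Opens) (hxW : x ∈ W) :
    ∃ (U : X.affineOpens) (_ : x ∈ U.1) (_ : U.1 ≤ W) (n : ℕ) (y : ULift.{u} (Fin n) → Γ(Y, π ⁻¹ᵁ U.1))
      (e : LogNCD.Through D x → Fin n), Function.Injective e ∧
      (letI := (kc (π ≫ f) (π ⁻¹ᵁ U.1)).toAlgebra; IsCoord k y) ∧
      (∀ i : LogNCD.Through D x, ((D i.1).ideal U).map (π.app U.1).hom =
        Ideal.span {y ⟨e i⟩ ^ (N / Nat.gcd N (α i.1))}) ∧
      (∀ i, x ∉ (D i).support → (D i).ideal U = ⊤) := by
  classical
  letI : X.Over (Spec (CommRingCat.of k)) := ⟨f⟩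
  haveI : Smooth (X ↘ Spec (CommRingCat.of k)) := ‹Smooth f›
  have hX : Pi1.IsNormalScheme X := Hilb20.isNormalScheme_of_smooth (k := k)
  haveI : IsFinite π := hR.1
  haveI : NeZero (N : k) := ⟨hNk⟩
  haveI : NeZero N := ⟨hN.ne'⟩
  obtain ⟨ζ₀, hζ₀⟩ := HasEnoughRootsOfUnity.exists_primitiveRoot k N
  obtain ⟨j, hj, hαj⟩ : ∃ j, x ∈ (D j).support ∧ ∀ i, x ∈ (D i).support → i ≠ j → α i = 0 := by
    by_cases h : ∃ i, 0 < α i ∧ x ∈ (D i).support
    · obtain ⟨j, hαj, hj⟩ := h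
      exact ⟨j, hj, fun i hi hne => Nat.eq_zero_of_not_pos fun h' => hne (hone i j h' hαj hi hj)⟩
    · exact ⟨j₀, hxj, fun i hi _ => Nat.eq_zero_of_not_pos fun h' => h ⟨i, h', hi⟩⟩
  obtain ⟨W₀, hxW₀, n, v₀, e, hinj, het, hideal, hout⟩ := hD x ⟨⟨j, hj⟩⟩
  obtain ⟨V, ε, hxV, hε⟩ := InvExt.exists_gen_nhd hL x
  obtain ⟨U₀, hU₀, hxU₀, hle⟩ := exists_isAffineOpen_mem_and_subset (show x ∈ V ⊓ (W₀ ⊓ W) from ⟨hxV, hxW₀, hxW⟩)
  let U₀' : X.affineOpens := ⟨U₀, hU₀⟩
  have h₀W₀ : U₀'.1 ≤ W₀ := fun a ha => (hle ha).2.1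
  have h₀V : U₀ ≤ V := fun a ha => (hle ha).1
  haveI : Nonempty U₀'.1 := ⟨⟨x, hxU₀⟩⟩
  letI := (kc f U₀'.1).toAlgebra
  let x₀ := fun i => LogNCD.sectOn W₀ h₀W₀ (v₀ i)
  have hx₀ : IsCoord k x₀ := isCoord_of_etale f W₀ v₀ U₀' h₀W₀
  let jj : ULift.{u} (Fin n) := ⟨e ⟨j, hj⟩⟩
  set g := x₀ jj
  have hgI : (D j).ideal U₀' = Ideal.span {g} := hideal ⟨j, hj⟩ U₀' h₀W₀
  have ho : ∀ i, i ≠ j → 0 < α i → (D i).ideal U₀' = ⊤ := fun i hi hpos =>
    hout i (fun hx' => by have := hαj i hx' hi; omega) U₀' h₀W₀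
  have hg0 : g ≠ 0 := nonZeroDivisors.ne_zero (hx₀.mem_nonZeroDivisors jj)
  obtain ⟨f₀, hf₀⟩ := exists_coef (s := s) (hε.restrict h₀V)
  obtain ⟨v, hv, hfv⟩ := exists_unit_coef (U := U₀') (hε.restrict h₀V) hf₀ _ hs (g ^ α j) (pow_ne_zero _ hg0)
    (ideal_divIdeal_eq_span D α U₀' j g hgI ho)
  set d := Nat.gcd N (α j)
  set δ := ∏ m ∈ Finset.range N, ((d : Γ(X, U₀)) * v + g * m * hx₀.pd jj v)
  have hdk : (d : k) ≠ 0 := fun h => hNk (by
    obtain ⟨q, hq⟩ := Nat.gcd_dvd_left N (α j)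
    rw [hq, Nat.cast_mul, h, zero_mul])
  have hxδ : x ∈ X.basicOpen δ := by
    rw [Scheme.mem_basicOpen _ _ _ hxU₀, map_prod, IsUnit.prod_iff]
    intro m _
    have hdu : IsUnit ((d : Γ(X, U₀)) * v) := by
      refine IsUnit.mul ?_ hv
      rw [← map_natCast (kc f U₀)]
      exact (isUnit_iff_ne_zero.2 hdk).map _
    have hgx : ¬ IsUnit (X.presheaf.germ U₀ x hxU₀ g) := by
      rw [← Scheme.mem_basicOpen]
      have h1 := (Scheme.IdealSheafData.mem_support_iff_of_mem (I := D j) (U := U₀') hxU₀).1 hj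
      rw [Scheme.mem_zeroLocus_iff] at h1
      exact h1 g (by rw [hgI]; exact Ideal.mem_span_singleton_self g)
    rw [map_add, mul_assoc, map_mul _ g]
    by_contra hc
    have h2 : X.presheaf.germ U₀ x hxU₀ g * X.presheaf.germ U₀ x hxU₀ (↑m * hx₀.pd jj v) ∈
        nonunits (X.presheaf.stalk x) := fun hu => hgx (isUnit_of_mul_isUnit_left hu)
    refine IsLocalRing.nonunits_add hc ((mul_mem_nonunits_right (a := -1) h2)) ?_
    rw [neg_one_mul, add_neg_cancel_right]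
    exact hdu.map _
  let U : X.affineOpens := ⟨X.basicOpen δ, hU₀.basicOpen δ⟩
  have hUle : U.1 ≤ U₀'.1 := X.basicOpen_le δ
  haveI : Nonempty U.1 := ⟨⟨x, hxδ⟩⟩
  letI := (kc f U.1).toAlgebra
  let ρ : Γ(X, U₀'.1) →ₐ[k] Γ(X, U.1) :=
    { (X.presheaf.map (homOfLE hUle).op).hom with commutes' := fun c => res_kc f hUle c }
  have hUW₀ : U.1 ≤ W₀ := hUle.trans h₀W₀
  let xs := fun i => LogNCD.sectOn W₀ hUW₀ (v₀ i)
  have hxs : IsCoord k xs := isCoord_of_etale f W₀ v₀ U hUW₀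
  have hρ : ∀ i, xs i = ρ (x₀ i) := fun i => by
    show _ = X.presheaf.map (homOfLE hUle).op (x₀ i)
    simp only [x₀, xs, LogNCD.sectOn_apply]
    rw [← CommRingCat.comp_apply _ (X.presheaf.map (homOfLE hUle).op), ← Functor.map_comp]
    rfl
  have he : InvExt.IsGen L U.1 (mres L hUle (mres L h₀V ε)) := (hε.restrict h₀V).restrict hUle
  have hfU := val_res hUle (mres L h₀V ε) f₀ hf₀
  have hfv' : X.presheaf.map (homOfLE hUle).op f₀ = ρ v * ∏ _i : PUnit.{1}, xs jj ^ α j := by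
    rw [Fintype.prod_unique, hρ, ← map_pow, ← map_mul, ← hfv]; rfl
  have hδu : IsUnit (ρ δ) := X.toRingedSpace.isUnit_res_basicOpen δ
  have hNU : IsUnit (N : Γ(X, U.1)) := by
    rw [← map_natCast (kc f U.1) N]
    exact (isUnit_iff_ne_zero.2 hNk).map _
  have hζ : IsPrimitiveRoot ((X.germToFunctionField U.1).hom (kc f U.1 ζ₀)) N :=
    hζ₀.map_of_injective (f := (X.germToFunctionField U.1).hom.comp (kc f U.1)) (RingHom.injective _)
  have hxj0 : xs jj ≠ 0 := nonZeroDivisors.ne_zero (hxs.mem_nonZeroDivisors jj)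
  obtain ⟨z, hz, hb⟩ := exists_frame_gens R hX hR hN U _ he _ hfU hNU (kc f U.1 ζ₀) hζ (fun _ : PUnit.{1} => xs jj)
    (fun _ => α j) (ρ v) (hv.map ρ) hfv' (fun _ => hxj0) (by rw [Fintype.prod_unique]; exact hxs.isRadical_span jj)
  letI := (kc (π ≫ f) (π ⁻¹ᵁ U.1)).toAlgebra
  let φ : Γ(X, U.1) →ₐ[k] Γ(Y, π ⁻¹ᵁ U.1) :=
    { (π.app U.1).hom with commutes' := fun c => app_kc π f U.1 c }
  set t := R.t U (mres L hUle (mres L h₀V ε)) (cycGen he)
  have hT : t ^ N = φ (ρ v) * φ (xs jj) ^ α j := by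
    rw [R.pow_eq U _ (cycGen he) _ hfU, hfv', Fintype.prod_unique, map_mul, map_pow]; rfl
  obtain ⟨w, ε', hε', hw, hy⟩ := exists_coord_cover φ hxs jj (ρ v) t (α j) hN hNk (hv.map ρ)
    (fun m hm => by
      have h1 : IsUnit (ρ ((d : Γ(X, U₀'.1)) * v + g * m * hx₀.pd jj v)) := by
        refine isUnit_of_dvd_unit (map_dvd ρ (Finset.dvd_prod_of_mem (fun m : ℕ => (d : Γ(X, U₀'.1)) * v + g * m * hx₀.pd jj v) (Finset.mem_range.2 hm))) hδu
      rw [map_add, map_mul, map_mul, map_mul, map_natCast, map_natCast] at h1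
      rw [hx₀.pd_map ρ hxs hρ jj v, hρ jj]
      exact h1)
    (app_mem_nonZeroDivisors R hR hN U _ he _ hxj0) z
    (fun i => by
      have := hz i
      rw [Fintype.prod_unique, map_pow] at this
      exact this) hT hb
  refine ⟨U, hxδ, fun a ha => (hle (hUle ha)).2.2, n, Function.update (fun i => φ (xs i)) jj w, e, hinj, hy,
    fun i => ?_, fun i hi => hout i hi U hUW₀⟩
  rw [hideal i U hUW₀, Ideal.map_span, Set.image_singleton]
  by_cases hij : i.1 = j
  · obtain rfl : i = ⟨j, hj⟩ := Subtype.ext hij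
    rw [Function.update_self]
    show Ideal.span {φ (xs jj)} = _
    rw [hw, Ideal.span_singleton_mul_right_unit hε']
  · have hne : (⟨e i⟩ : ULift.{u} (Fin n)) ≠ jj := fun h => hij
      (congrArg Subtype.val (hinj (congrArg ULift.down h)))
    rw [Function.update_of_ne hne, hαj i.1 i.2 hij, Nat.gcd_zero_right, Nat.div_self hN, pow_one]
    rfl

end GrothLib.CycNorm12
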