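import Mathlib

/-!
# Integral elements of `K[T]/(T^N - f)`
-/

set_option autoImplicit false
set_option linter.all false

universe u

open Polynomial

noncomputable section

namespace GrothLib.CycNorm12

variable {B K : Type u} [CommRing B] [Field K] [Algebra B K]

/-- The algebra `K[T]/(T^N - f)`. -/
abbrev KRoot (K : Type u) [Field K] (N : ℕ) (a : K) : Type u := AdjoinRoot (X ^ N - C a)

theorem root_pow_eq (N : ℕ) (a : K) :
    AdjoinRoot.root (X ^ N - C a) ^ N = AdjoinRoot.of (X ^ N - C a) a := by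
  have h := AdjoinRoot.eval₂_root (X ^ N - C a)
  rwa [eval₂_sub, eval₂_X_pow, eval₂_C, sub_eq_zero] at h

theorem of_injective {N : ℕ} (hN : 0 < N) (a : K) : Function.Injective (AdjoinRoot.of (X ^ N - C a)) :=
  AdjoinRoot.of.injective_of_degree_ne_zero (by
    rw [degree_X_pow_sub_C hN]; exact_mod_cast hN.ne')

theorem eval_scale (N : ℕ) (a z : K) (hz : z ^ N = 1) :
    eval₂ (AdjoinRoot.of (X ^ N - C a)) (AdjoinRoot.of _ z * AdjoinRoot.root (X ^ N - C a)) (X ^ N - C a) = 0 := by
  rw [eval₂_sub, eval₂_X_pow, eval₂_C, mul_pow, ← map_pow, hz, map_one, one_mul, root_pow_eq, sub_self]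

variable (B) in
/-- The scaling of the root. -/
def scaleRoot (N : ℕ) (a z : K) (hz : z ^ N = 1) : KRoot K N a →ₐ[B] KRoot K N a :=
  { AdjoinRoot.lift (AdjoinRoot.of _) (AdjoinRoot.of _ z * AdjoinRoot.root (X ^ N - C a))
      (eval_scale N a z hz) with
    commutes' := fun b => by
      change AdjoinRoot.lift _ _ _ (algebraMap B (KRoot K N a) b) = algebraMap B (KRoot K N a) b
      rw [IsScalarTower.algebraMap_apply B K (KRoot K N a), AdjoinRoot.algebraMap_eq, AdjoinRoot.lift_of] }

theorem scaleRoot_sum (N : ℕ) (a z : K) (hz : z ^ N = 1) (c : Fin N → K) :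
    scaleRoot B N a z hz (∑ i, AdjoinRoot.of _ (c i) * AdjoinRoot.root _ ^ (i : ℕ)) =
      ∑ i, AdjoinRoot.of _ (c i * z ^ (i : ℕ)) * AdjoinRoot.root _ ^ (i : ℕ) := by
  rw [map_sum]
  refine Finset.sum_congr rfl fun i _ => ?_
  have hof : ∀ x : K, scaleRoot B N a z hz (AdjoinRoot.of _ x) = AdjoinRoot.of _ x := fun x => AdjoinRoot.lift_of (eval_scale N a z hz)
  have hroot : scaleRoot B N a z hz (AdjoinRoot.root _) = AdjoinRoot.of _ z * AdjoinRoot.root _ := AdjoinRoot.lift_root (eval_scale N a z hz)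
  rw [map_mul, map_pow, hof, hroot, mul_pow, map_mul, map_pow]
  ring

theorem exists_coord {R : Type u} [CommRing R] [Nontrivial R] (N : ℕ) (hN : 0 < N) (a : R)
    (x : AdjoinRoot (X ^ N - C a)) :
    ∃ c : Fin N → R, x = ∑ i, AdjoinRoot.of _ (c i) * AdjoinRoot.root _ ^ (i : ℕ) := by
  have hm : (X ^ N - C a).Monic := monic_X_pow_sub_C a hN.ne'
  let pb := AdjoinRoot.powerBasis' hm
  have hd : pb.dim = N := by show (X ^ N - C a).natDegree = N; exact natDegree_X_pow_sub_C
  refine ⟨fun i => pb.basis.repr x (Fin.cast hd.symm i), ?_⟩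
  conv_lhs => rw [← pb.basis.sum_repr x]
  refine Fintype.sum_equiv (finCongr hd) _ _ fun i => ?_
  simp [pb.coe_basis, Algebra.smul_def, AdjoinRoot.algebraMap_eq, pb]

theorem coord_eq_zero {R : Type u} [CommRing R] [Nontrivial R] (N : ℕ) (hN : 0 < N) (a : R) (c : Fin N → R)
    (h : ∑ i, AdjoinRoot.of (X ^ N - C a) (c i) * AdjoinRoot.root _ ^ (i : ℕ) = 0) (i : Fin N) : c i = 0 := by
  have hm : (X ^ N - C a).Monic := monic_X_pow_sub_C a hN.ne'
  let pb := AdjoinRoot.powerBasis' hm
  have hd : pb.dim = N := by show (X ^ N - C a).natDegree = N; exact natDegree_X_pow_sub_C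
  have h2 : ∑ j : Fin pb.dim, c (Fin.cast hd j) • pb.basis j = 0 := by
    rw [← h]
    refine Fintype.sum_equiv (finCongr hd) _ _ fun j => ?_
    simp [pb.coe_basis, Algebra.smul_def, AdjoinRoot.algebraMap_eq, pb]
  have := Fintype.linearIndependent_iff.1 pb.basis.linearIndependent _ h2 (Fin.cast hd.symm i)
  simpa using this

/-- The coordinates of an element integral over a normal base. -/
theorem exists_eq_pow_mul [IsDomain B] [IsFractionRing B K] [IsIntegrallyClosed B] {N : ℕ} (hN : 0 < N)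
    (hNB : IsUnit (N : B)) (ζ : B) (hζ : IsPrimitiveRoot (algebraMap B K ζ) N) (f : B) (c : Fin N → K)
    (hint : IsIntegral B (∑ i, AdjoinRoot.of (X ^ N - C (algebraMap B K f)) (c i) *
      AdjoinRoot.root (X ^ N - C (algebraMap B K f)) ^ (i : ℕ)))
    (i : Fin N) : ∃ b : B, algebraMap B K b = c i ^ N * algebraMap B K f ^ (i : ℕ) := by
  classical
  set a := algebraMap B K f
  set z := algebraMap B K ζ
  set r := AdjoinRoot.root (X ^ N - C a)
  set of' := AdjoinRoot.of (X ^ N - C a)
  have hzm : ∀ m : ℕ, (z ^ m) ^ N = 1 := fun m => by rw [← pow_mul, mul_comm, pow_mul, hζ.pow_eq_one, one_pow]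
  let x : KRoot K N a := ∑ j, of' (c j) * r ^ (j : ℕ)
  have hsum : ∑ m ∈ Finset.range N, of' (z ^ (m * (N - i))) * scaleRoot B N a (z ^ m) (hzm m) x =
      of' ((N : K) * c i) * r ^ (i : ℕ) := by
    simp only [x, r, of', scaleRoot_sum, Finset.mul_sum]
    rw [Finset.sum_comm, Finset.sum_eq_single i]
    · rw [map_mul, map_natCast]
      have : ∀ m : ℕ, z ^ (m * (N - i)) * (z ^ m) ^ (i : ℕ) = 1 := fun m => by
        rw [← pow_mul, ← pow_add, ← Nat.mul_add, Nat.sub_add_cancel i.2.le, pow_mul]; exact hzm m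
      rw [Finset.sum_congr rfl fun m _ => by
        rw [← mul_assoc, ← map_mul, show z ^ (m * (N - i)) * (c i * (z ^ m) ^ (i : ℕ)) = c i by
          rw [mul_left_comm, this, mul_one]]]
      rw [Finset.sum_const, Finset.card_range, nsmul_eq_mul, mul_assoc]
    · intro j _ hj
      rw [Finset.sum_congr rfl fun m _ => by
        rw [← mul_assoc, ← map_mul, show z ^ (m * (N - i)) * (c j * (z ^ m) ^ (j : ℕ)) =
          c j * (z ^ (N - i + j)) ^ m by
          rw [← pow_mul z m, mul_left_comm, ← pow_add, ← Nat.mul_add, ← pow_mul, mul_comm m]]]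
      rw [← Finset.sum_mul, ← map_sum, ← Finset.mul_sum]
      have hne : z ^ (N - i + j) ≠ 1 := fun h => by
        have hdvd := (hζ.pow_eq_one_iff_dvd _).1 h
        refine hj (Fin.ext ?_)
        obtain ⟨q, hq⟩ := hdvd
        have := i.2; have := j.2
        rcases q with - | - | q
        · omega
        · omega
        · rw [Nat.mul_add, Nat.mul_add] at hq; omega
      have h0 : ∑ m ∈ Finset.range N, (z ^ (N - i + j)) ^ m = 0 := by
        rw [geom_sum_eq hne, hzm, sub_self, zero_div]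
      rw [h0, mul_zero, map_zero, zero_mul]
    · exact fun h => absurd (Finset.mem_univ i) h
  have hz' : IsIntegral B (of' ((N : K) * c i) * r ^ (i : ℕ)) := by
    rw [← hsum]
    refine IsIntegral.sum _ fun m _ => IsIntegral.mul ?_ (hint.map (scaleRoot B N a (z ^ m) (hzm m)))
    rw [← map_pow, show of' (algebraMap B K (ζ ^ (m * (N - i)))) = algebraMap B (KRoot K N a) (ζ ^ (m * (N - i))) from
      (IsScalarTower.algebraMap_apply B K (KRoot K N a) _).symm]
    exact isIntegral_algebraMap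
  have hp := hz'.pow N
  rw [mul_pow, ← map_pow, ← pow_mul, mul_comm (i : ℕ) N, pow_mul, root_pow_eq, ← map_pow, ← map_mul,
    show of' (((N : K) * c i) ^ N * a ^ (i : ℕ)) = algebraMap K (KRoot K N a) (((N : K) * c i) ^ N * a ^ (i : ℕ)) from rfl,
    isIntegral_algebraMap_iff (of_injective hN a)] at hp
  have hNK : (N : K) ≠ 0 := fun h => by
    have := hNB.map (algebraMap B K)
    rw [map_natCast, h] at this
    exact not_isUnit_zero this
  have hu : IsIntegral B (((N : K) ^ N)⁻¹) := by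
    obtain ⟨v, hv⟩ := hNB
    have : algebraMap B K (((v⁻¹ : Bˣ) : B) ^ N) = ((N : K) ^ N)⁻¹ := by
      rw [map_pow, ← inv_pow]
      congr 1
      refine eq_inv_of_mul_eq_one_left ?_
      rw [← map_natCast (algebraMap B K) N, ← hv, ← map_mul, Units.inv_mul, map_one]
    rw [← this]
    exact isIntegral_algebraMap
  have hfin := hp.mul hu
  rw [show ((N : K) * c i) ^ N * a ^ (i : ℕ) * ((N : K) ^ N)⁻¹ = c i ^ N * a ^ (i : ℕ) by
    rw [mul_pow]; field_simp] at hfin
  exact IsIntegrallyClosed.algebraMap_eq_of_integral hfin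

end GrothLib.CycNorm12
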