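import Mathlib
import Groth.Agent.Lib.Hensel.Reduced

/-!
# Étale coordinates and extraction of roots of a coordinate
-/

set_option autoImplicit false
set_option linter.all false
set_option backward.isDefEq.respectTransparency false

universe u v

open MvPolynomial (aeval)
open scoped DualNumber TensorProduct

noncomputable section

namespace GrothLib.CycNorm12

variable {k A : Type u} [CommRing k] [CommRing A] [Algebra k A] {σ : Type v}

/-- The functions `x` define an étale map to affine space. -/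
def IsCoord (k : Type u) {A : Type u} [CommRing k] [CommRing A] [Algebra k A] {σ : Type v} (x : σ → A) : Prop :=
  (aeval x : MvPolynomial σ k →ₐ[k] A).toRingHom.Etale

theorem IsCoord.existsUnique_quot {x : σ → A} (hx : IsCoord k x) {T : Type (max u v)} [CommRing T] [Algebra k T]
    (I : Ideal T) (hI : I ^ 2 = ⊥) (φ' : A →ₐ[k] T ⧸ I) (c : σ → T) (hc : ∀ i, Ideal.Quotient.mk I (c i) = φ' (x i)) :
    ∃! φ : A →ₐ[k] T, (Ideal.Quotient.mkₐ k I).comp φ = φ' ∧ ∀ i, φ (x i) = c i := by
  letI := (aeval x : MvPolynomial σ k →ₐ[k] A).toRingHom.toAlgebra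
  haveI : Algebra.Etale (MvPolynomial σ k) A := hx
  letI : Algebra (MvPolynomial σ k) T := (aeval c : MvPolynomial σ k →ₐ[k] T).toRingHom.toAlgebra
  haveI : IsScalarTower k (MvPolynomial σ k) A := .of_algebraMap_eq fun r => ((aeval x).commutes r).symm
  haveI : IsScalarTower k (MvPolynomial σ k) T := .of_algebraMap_eq fun r => ((aeval c).commutes r).symm
  let ψ : A →ₐ[MvPolynomial σ k] T ⧸ I := { φ'.toRingHom with
    commutes' := fun p => AlgHom.congr_fun (MvPolynomial.algHom_ext (fun i => by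
      simp [hc]) : φ'.comp (aeval x) = (Ideal.Quotient.mkₐ k I).comp (aeval c)) p }
  obtain ⟨l, hl⟩ := (Algebra.FormallyEtale.comp_bijective (MvPolynomial σ k) A I hI).2 ψ
  refine ⟨l.restrictScalars k, ⟨AlgHom.ext fun a => AlgHom.congr_fun hl a, fun i => ?_⟩, fun φ hφ => ?_⟩
  · have h := l.commutes (MvPolynomial.X i)
    simpa [RingHom.algebraMap_toAlgebra] using h
  · let φl : A →ₐ[MvPolynomial σ k] T := { φ.toRingHom with
      commutes' := fun p => AlgHom.congr_fun (MvPolynomial.algHom_ext (fun i => by simp [hφ.2]) :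
        φ.comp (aeval x) = aeval c) p }
    have : φl = l := (Algebra.FormallyEtale.comp_bijective (MvPolynomial σ k) A I hI).1
      (AlgHom.ext fun a => (AlgHom.congr_fun hφ.1 a).trans (AlgHom.congr_fun hl a).symm)
    exact AlgHom.ext fun a => AlgHom.congr_fun this a

section

variable {σ : Type u} {x : σ → A} {T T' : Type u} [CommRing T] [CommRing T'] [Algebra k T] [Algebra k T']

theorem ker_sq (g : T →ₐ[k] T') (hg : ∀ a b, g a = 0 → g b = 0 → a * b = 0) : RingHom.ker g ^ 2 = ⊥ := by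
  rw [pow_two, eq_bot_iff, Ideal.mul_le]
  exact fun a ha b hb => Ideal.mem_bot.2 (hg a b ha hb)

theorem IsCoord.exists_lift (hx : IsCoord k x) (g : T →ₐ[k] T') (hgs : Function.Surjective g)
    (hg : ∀ a b, g a = 0 → g b = 0 → a * b = 0) (φ' : A →ₐ[k] T') (c : σ → T) (hc : ∀ i, g (c i) = φ' (x i)) :
    ∃ φ : A →ₐ[k] T, g.comp φ = φ' ∧ ∀ i, φ (x i) = c i := by
  let E := Ideal.quotientKerAlgEquivOfSurjective hgs
  have hE : ∀ t, E (Ideal.Quotient.mk _ t) = g t := fun t => rfl
  obtain ⟨φ, ⟨h1, h2⟩, -⟩ := hx.existsUnique_quot _ (ker_sq g hg) (E.symm.toAlgHom.comp φ') c fun i => by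
    apply E.injective
    rw [hE, hc]
    exact (E.apply_symm_apply _).symm
  refine ⟨φ, AlgHom.ext fun a => ?_, h2⟩
  have := congrArg E (AlgHom.congr_fun h1 a)
  rw [AlgHom.comp_apply] at this ⊢
  exact (hE _).symm.trans (this.trans (E.apply_symm_apply _))

theorem IsCoord.hom_ext (hx : IsCoord k x) (g : T →ₐ[k] T') (hg : ∀ a b, g a = 0 → g b = 0 → a * b = 0)
    (φ ψ : A →ₐ[k] T) (h : g.comp φ = g.comp ψ) (hc : ∀ i, φ (x i) = ψ (x i)) : φ = ψ := by
  have hq : (Ideal.Quotient.mkₐ k (RingHom.ker g)).comp φ = (Ideal.Quotient.mkₐ k (RingHom.ker g)).comp ψ := by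
    refine AlgHom.ext fun a => Ideal.Quotient.eq.2 ?_
    rw [RingHom.mem_ker, map_sub, sub_eq_zero]
    exact AlgHom.congr_fun h a
  exact (hx.existsUnique_quot _ (ker_sq g hg) ((Ideal.Quotient.mkₐ k _).comp ψ) (fun i => ψ (x i))
    (fun i => rfl)).unique ⟨hq, hc⟩ ⟨rfl, fun i => rfl⟩

theorem fst_mul_eq_zero (a b : A[ε]) (ha : a.fst = 0) (hb : b.fst = 0) : a * b = 0 := by
  refine TrivSqZeroExt.ext ?_ ?_
  · simp [ha]
  · simp [ha, hb]

open Classical in
/-- The derivation `∂/∂x_j`. -/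
def IsCoord.eta (hx : IsCoord k x) (j : σ) : A →ₐ[k] A[ε] :=
  (hx.exists_lift (TrivSqZeroExt.fstHom k A A) (fun a => ⟨TrivSqZeroExt.inl a, rfl⟩) fst_mul_eq_zero
    (AlgHom.id k A) (fun i => TrivSqZeroExt.inl (x i) + if i = j then DualNumber.eps else 0)
    (fun i => by
      split_ifs <;> simp [TrivSqZeroExt.fstHom])).choose

/-- The partial derivative. -/
def IsCoord.pd (hx : IsCoord k x) (j : σ) (a : A) : A := (hx.eta j a).snd

theorem IsCoord.fst_eta (hx : IsCoord k x) (j : σ) (a : A) : (hx.eta j a).fst = a := by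
  classical
  exact AlgHom.congr_fun (IsCoord.exists_lift hx (TrivSqZeroExt.fstHom k A A) (fun a => ⟨TrivSqZeroExt.inl a, rfl⟩)
    fst_mul_eq_zero (AlgHom.id k A) (fun i => TrivSqZeroExt.inl (x i) + if i = j then DualNumber.eps else 0)
    (fun i => by split_ifs <;> simp [TrivSqZeroExt.fstHom])).choose_spec.1 a

open Classical in
theorem IsCoord.eta_coord (hx : IsCoord k x) (j i : σ) :
    hx.eta j (x i) = TrivSqZeroExt.inl (x i) + if i = j then DualNumber.eps else 0 :=
  (IsCoord.exists_lift hx (TrivSqZeroExt.fstHom k A A) (fun a => ⟨TrivSqZeroExt.inl a, rfl⟩)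
    fst_mul_eq_zero (AlgHom.id k A) (fun i => TrivSqZeroExt.inl (x i) + if i = j then DualNumber.eps else 0)
    (fun i => by split_ifs <;> simp [TrivSqZeroExt.fstHom])).choose_spec.2 i

theorem IsCoord.pd_self (hx : IsCoord k x) (j : σ) : hx.pd j (x j) = 1 := by
  classical
  simp [IsCoord.pd, hx.eta_coord]

theorem IsCoord.pd_mul (hx : IsCoord k x) (j : σ) (a b : A) :
    hx.pd j (a * b) = a * hx.pd j b + hx.pd j a * b := by
  simp [IsCoord.pd, hx.fst_eta]

theorem IsCoord.pd_one (hx : IsCoord k x) (j : σ) : hx.pd j 1 = 0 := by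
  simp [IsCoord.pd]

theorem IsCoord.pd_pow (hx : IsCoord k x) (j : σ) (a : A) :
    ∀ n : ℕ, hx.pd j (a ^ (n + 1)) = (n + 1 : A) * a ^ n * hx.pd j a
  | 0 => by simp
  | n + 1 => by
    rw [pow_succ _ (n + 1), hx.pd_mul, hx.pd_pow j a n]
    push_cast
    ring

/-- The two maps `x ↦ (x, x' )` differ by the derivative. -/
theorem IsCoord.apply_eq_add_pd_mul (hx : IsCoord k x) (j : σ) (g : T →ₐ[k] T')
    (hg : ∀ a b, g a = 0 → g b = 0 → a * b = 0) (φ φ' : A →ₐ[k] T) (h : g.comp φ = g.comp φ')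
    (hne : ∀ i, i ≠ j → φ' (x i) = φ (x i)) (z : A) :
    φ' z = φ z + φ (hx.pd j z) * (φ' (x j) - φ (x j)) := by
  classical
  set a := φ' (x j) - φ (x j)
  have ha : g a = 0 := by
    rw [map_sub, sub_eq_zero]; exact (AlgHom.congr_fun h (x j)).symm
  let fe : {fe : (A →ₐ[k] T) × T // fe.2 * fe.2 = 0 ∧ ∀ b, Commute fe.2 (fe.1 b)} :=
    ⟨(φ, a), hg a a ha ha, fun b => Commute.all _ _⟩
  have he : ∀ b, ((DualNumber.lift fe).comp (hx.eta j)) b = φ b + φ (hx.pd j b) * a := fun b => by
    rw [AlgHom.comp_apply, DualNumber.lift_apply_apply, hx.fst_eta]; rfl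
  have : φ' = (DualNumber.lift fe).comp (hx.eta j) := by
    refine hx.hom_ext g hg _ _ (AlgHom.ext fun b => ?_) fun i => ?_
    · rw [AlgHom.comp_apply g, AlgHom.comp_apply g, he, map_add, map_mul, ha, mul_zero, add_zero]
      exact (AlgHom.congr_fun h b).symm
    · rw [he]
      by_cases hi : i = j
      · subst hi; rw [hx.pd_self, map_one, one_mul]; simp [a]
      · rw [show hx.pd j (x i) = 0 by simp [IsCoord.pd, hx.eta_coord, hi], map_zero, zero_mul, add_zero, hne i hi]
  exact (AlgHom.congr_fun this z).trans (he z)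

theorem IsCoord.pd_map {B : Type u} [CommRing B] [Algebra k B] (hx : IsCoord k x) (h : A →ₐ[k] B) {x' : σ → B}
    (hx' : IsCoord k x') (hxx : ∀ i, x' i = h (x i)) (j : σ) (z : A) : hx'.pd j (h z) = h (hx.pd j z) := by
  classical
  let fe : {fe : (A →ₐ[k] B[ε]) × B[ε] // fe.2 * fe.2 = 0 ∧ ∀ b, Commute fe.2 (fe.1 b)} :=
    ⟨((TrivSqZeroExt.inlAlgHom k B B).comp h, DualNumber.eps), DualNumber.eps_mul_eps, fun b => Commute.all _ _⟩
  have key : (hx'.eta j).comp h = (DualNumber.lift fe).comp (hx.eta j) := by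
    refine hx.hom_ext (TrivSqZeroExt.fstHom k B B) fst_mul_eq_zero _ _ (AlgHom.ext fun b => ?_) fun i => ?_
    · simp [TrivSqZeroExt.fstHom, hx'.fst_eta, DualNumber.lift_apply_apply, hx.fst_eta, fe]
    · rw [AlgHom.comp_apply, AlgHom.comp_apply, ← hxx, hx'.eta_coord, hx.eta_coord, hxx,
        DualNumber.lift_apply_apply]
      split_ifs <;> simp [fe]
  have := congrArg TrivSqZeroExt.snd (AlgHom.congr_fun key z)
  simpa [IsCoord.pd, DualNumber.lift_apply_apply, fe] using this

theorem isCoord_of_lift [Finite σ] [Algebra.FinitePresentation k A] (x : σ → A)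
    (H : ∀ (T T' : Type u) [CommRing T] [CommRing T'] [Algebra k T] [Algebra k T'] (g : T →ₐ[k] T'),
      Function.Surjective g → (∀ a b, g a = 0 → g b = 0 → a * b = 0) → ∀ (φ' : A →ₐ[k] T') (c : σ → T),
      (∀ i, g (c i) = φ' (x i)) → ∃! φ : A →ₐ[k] T, g.comp φ = φ' ∧ ∀ i, φ (x i) = c i) : IsCoord k x := by
  letI := (aeval x : MvPolynomial σ k →ₐ[k] A).toRingHom.toAlgebra
  show Algebra.Etale (MvPolynomial σ k) A
  haveI : IsScalarTower k (MvPolynomial σ k) A := .of_algebraMap_eq fun r => ((aeval x).commutes r).symm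
  haveI : Algebra.FormallyEtale (MvPolynomial σ k) A := by
    rw [Algebra.FormallyEtale.iff_comp_bijective]
    intro T _ _ I hI
    letI : Algebra k T := ((algebraMap (MvPolynomial σ k) T).comp (algebraMap k _)).toAlgebra
    haveI : IsScalarTower k (MvPolynomial σ k) T := .of_algebraMap_eq fun _ => rfl
    have hg : ∀ a b, Ideal.Quotient.mkₐ k I a = 0 → Ideal.Quotient.mkₐ k I b = 0 → a * b = 0 := fun a b ha hb => by
      rw [← Ideal.mem_bot, ← hI, pow_two]
      exact Ideal.mul_mem_mul (Ideal.Quotient.eq_zero_iff_mem.1 ha) (Ideal.Quotient.eq_zero_iff_mem.1 hb)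
    have hv : ∀ (φ : A →ₐ[MvPolynomial σ k] T) i, φ (x i) = algebraMap (MvPolynomial σ k) T (MvPolynomial.X i) :=
      fun φ i => by rw [← φ.commutes]; simp [RingHom.algebraMap_toAlgebra]
    refine ⟨fun φ ψ h => ?_, fun φ' => ?_⟩
    · refine AlgHom.restrictScalars_injective k ((H T (T ⧸ I) (Ideal.Quotient.mkₐ k I) Ideal.Quotient.mk_surjective hg
        ((Ideal.Quotient.mkₐ k I).comp (φ.restrictScalars k)) (fun i => φ (x i)) (fun i => rfl)).unique
        ⟨rfl, fun i => rfl⟩ ⟨AlgHom.ext fun a => (AlgHom.congr_fun h a).symm, fun i => ?_⟩)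
      exact (hv ψ i).trans (hv φ i).symm
    · obtain ⟨φ, ⟨h1, h2⟩, -⟩ := H T (T ⧸ I) (Ideal.Quotient.mkₐ k I) Ideal.Quotient.mk_surjective hg
        (φ'.restrictScalars k) (fun i => algebraMap (MvPolynomial σ k) T (MvPolynomial.X i)) (fun i => by
          rw [AlgHom.restrictScalars_apply, show x i = algebraMap (MvPolynomial σ k) A (MvPolynomial.X i) by
            simp [RingHom.algebraMap_toAlgebra], φ'.commutes]
          rfl)
      refine ⟨{ φ.toRingHom with commutes' := fun p => ?_ }, AlgHom.ext fun a => AlgHom.congr_fun h1 a⟩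
      exact AlgHom.congr_fun (MvPolynomial.algHom_ext (fun i => by simp [h2]) :
        φ.comp (aeval x) = IsScalarTower.toAlgHom k (MvPolynomial σ k) T) p
  haveI : Algebra.FinitePresentation (MvPolynomial σ k) A :=
    Algebra.FinitePresentation.of_restrict_scalars_finitePresentation k _ _
  exact {}

/-- Coordinates after extracting an `e`-th root of `z`. -/
theorem IsCoord.adjoinRoot [Finite σ] [Algebra.FinitePresentation k A] [DecidableEq σ] (hx : IsCoord k x) (j : σ)
    (z : A) (hδ : IsUnit (hx.pd j z)) (e : ℕ) :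
    IsCoord k (Function.update (fun i => AdjoinRoot.of (Polynomial.X ^ e - Polynomial.C z) (x i)) j
      (AdjoinRoot.root (Polynomial.X ^ e - Polynomial.C z))) := by
  set p := Polynomial.X ^ e - Polynomial.C z
  refine isCoord_of_lift _ fun T T' _ _ _ _ g hgs hg φ' c hc => ?_
  let ofA : A →ₐ[k] AdjoinRoot p := IsScalarTower.toAlgHom k A _
  have hof : ∀ a, ofA a = AdjoinRoot.of p a := fun a => rfl
  have hroot : AdjoinRoot.root p ^ e = AdjoinRoot.of p z := by
    have h := AdjoinRoot.eval₂_root p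
    rwa [Polynomial.eval₂_sub, Polynomial.eval₂_X_pow, Polynomial.eval₂_C, sub_eq_zero] at h
  obtain ⟨ξ, hξ⟩ := hgs (φ' (ofA (x j)))
  have hc' : ∀ i, i ≠ j → g (c i) = φ' (ofA (x i)) := fun i hi => by rw [hc, Function.update_of_ne hi, hof]
  have hcj : g (c j) = φ' (AdjoinRoot.root p) := by rw [hc, Function.update_self]
  obtain ⟨φ₀, h0, h0x⟩ := hx.exists_lift g hgs hg (φ'.comp ofA) (Function.update c j ξ) fun i => by
    by_cases hi : i = j
    · subst hi; rw [Function.update_self]; exact hξ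
    · rw [Function.update_of_ne hi]; exact hc' i hi
  obtain ⟨δi, hδi⟩ := (hδ.map φ₀).exists_right_inv
  set a := (c j ^ e - φ₀ z) * δi
  have ha : g a = 0 := by
    have h0z : g (φ₀ z) = φ' (ofA z) := AlgHom.congr_fun h0 z
    rw [map_mul, map_sub, map_pow, hcj, h0z, hof, ← map_pow, hroot, sub_self, zero_mul]
  obtain ⟨φ₁, h1, h1x⟩ := hx.exists_lift g hgs hg (φ'.comp ofA) (Function.update c j (ξ + a)) fun i => by
    by_cases hi : i = j
    · subst hi; rw [Function.update_self, map_add, ha, add_zero]; exact hξ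
    · rw [Function.update_of_ne hi]; exact hc' i hi
  have h1z : φ₁ z = c j ^ e := by
    rw [hx.apply_eq_add_pd_mul j g hg φ₀ φ₁ (h0.trans h1.symm) (fun i hi => by
      rw [h1x, h0x, Function.update_of_ne hi, Function.update_of_ne hi]) z, h1x, h0x, Function.update_self,
      Function.update_self, add_sub_cancel_left, show a = (c j ^ e - φ₀ z) * δi from rfl, ← mul_assoc,
      mul_comm _ (c j ^ e - φ₀ z), mul_assoc, hδi]
    ring
  let Φ : AdjoinRoot p →ₐ[k] T := AdjoinRoot.liftAlgHom p φ₁ (c j) (by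
    simp only [p, Polynomial.eval₂_sub, Polynomial.eval₂_X_pow, Polynomial.eval₂_C]
    exact sub_eq_zero.2 h1z.symm)
  have hΦof : ∀ b, Φ (AdjoinRoot.of p b) = φ₁ b := fun b => AdjoinRoot.liftAlgHom_of _ _ _ _ _
  have hΦr : Φ (AdjoinRoot.root p) = c j := AdjoinRoot.liftAlgHom_root _ _ _ _
  have ext' : ∀ (U : Type u) [CommRing U] [Algebra k U] (F G : AdjoinRoot p →ₐ[k] U),
      F.comp ofA = G.comp ofA → F (AdjoinRoot.root p) = G (AdjoinRoot.root p) → F = G := by
    intro U _ _ F G h1 h2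
    refine AlgHom.ext fun y => ?_
    obtain ⟨q, rfl⟩ := AdjoinRoot.mk_surjective y
    show (F.toRingHom.comp (AdjoinRoot.mk p)) q = (G.toRingHom.comp (AdjoinRoot.mk p)) q
    congr 1
    exact Polynomial.ringHom_ext (fun b => AlgHom.congr_fun h1 b) h2
  refine ⟨Φ, ⟨ext' T' _ _ (AlgHom.ext fun b => ?_) ?_, fun i => ?_⟩, fun Ψ hΨ => ?_⟩
  · show g (Φ (AdjoinRoot.of p b)) = _
    rw [hΦof]; exact AlgHom.congr_fun h1 b
  · rw [AlgHom.comp_apply, hΦr, hcj]
  · by_cases hi : i = j
    · subst hi; rw [Function.update_self, hΦr]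
    · rw [Function.update_of_ne hi, hΦof, h1x, Function.update_of_ne hi]
  · obtain ⟨hΨ1, hΨ2⟩ := hΨ
    have hr : Ψ (AdjoinRoot.root p) = c j := by simpa using hΨ2 j
    have hg' : g.comp φ₁ = g.comp (Ψ.comp ofA) := by rw [h1, ← AlgHom.comp_assoc, hΨ1]
    have hne : ∀ i, i ≠ j → Ψ.comp ofA (x i) = φ₁ (x i) := fun i hi => by
      rw [h1x, Function.update_of_ne hi, AlgHom.comp_apply, hof]
      simpa [Function.update_of_ne hi] using hΨ2 i
    have hd := hx.apply_eq_add_pd_mul j g hg φ₁ (Ψ.comp ofA) hg' hne z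
    have hz : Ψ.comp ofA z = c j ^ e := by rw [AlgHom.comp_apply, hof, ← hroot, map_pow, hr]
    rw [hz, h1z] at hd
    have h0 : Ψ.comp ofA (x j) - φ₁ (x j) = 0 := (hδ.map φ₁).mul_right_eq_zero.1 (add_eq_left.1 hd.symm)
    have hA : Ψ.comp ofA = φ₁ := hx.hom_ext g hg _ _ hg'.symm fun i => by
      by_cases hi : i = j
      · subst hi; exact sub_eq_zero.1 h0
      · exact hne i hi
    exact ext' T _ _ (AlgHom.ext fun b => (AlgHom.congr_fun hA b).trans (hΦof b).symm) (hr.trans hΦr.symm)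

theorem IsCoord.trans {B : Type u} [CommRing B] [Algebra k B] [Algebra A B] [IsScalarTower k A B] [Algebra.Etale A B]
    (hx : IsCoord k x) : IsCoord k (fun i => algebraMap A B (x i)) := by
  have h2 : (algebraMap A B).Etale := RingHom.etale_algebraMap.2 ‹_›
  unfold IsCoord
  rw [show (aeval fun i => algebraMap A B (x i) : MvPolynomial σ k →ₐ[k] B) =
    (IsScalarTower.toAlgHom k A B).comp (aeval x) from MvPolynomial.algHom_ext fun i => by simp]
  exact RingHom.Etale.stableUnderComposition _ _ hx h2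

theorem IsCoord.smooth [Finite σ] (hx : IsCoord k x) : Algebra.Smooth k A := by
  letI := (aeval x : MvPolynomial σ k →ₐ[k] A).toRingHom.toAlgebra
  haveI : Algebra.Etale (MvPolynomial σ k) A := hx
  haveI : IsScalarTower k (MvPolynomial σ k) A := .of_algebraMap_eq fun r => ((aeval x).commutes r).symm
  haveI : Algebra.Smooth k (MvPolynomial σ k) := {}
  exact Algebra.Smooth.comp k (MvPolynomial σ k) A

end

section Field

variable {K B : Type u} [Field K] [CommRing B] [Algebra K B] {σ : Type u} {x : σ → B}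

theorem IsCoord.isReduced (hx : IsCoord K x) : IsReduced B := by
  letI := (aeval x : MvPolynomial σ K →ₐ[K] B).toRingHom.toAlgebra
  haveI : Algebra.Etale (MvPolynomial σ K) B := hx
  exact Hensel.isReduced_of_etale (MvPolynomial σ K) B

theorem IsCoord.isRadical_span (hx : IsCoord K x) (j : σ) : (Ideal.span {x j}).IsRadical := by
  letI := (aeval x : MvPolynomial σ K →ₐ[K] B).toRingHom.toAlgebra
  haveI : Algebra.Etale (MvPolynomial σ K) B := hx
  let I : Ideal (MvPolynomial σ K) := Ideal.span {MvPolynomial.X j}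
  haveI : I.IsPrime := (Ideal.span_singleton_prime (MvPolynomial.X_ne_zero j)).2 MvPolynomial.X_prime
  haveI := Hensel.isReduced_of_etale (MvPolynomial σ K ⧸ I) ((MvPolynomial σ K ⧸ I) ⊗[MvPolynomial σ K] B)
  have hI : Ideal.span {x j} = I.map (algebraMap (MvPolynomial σ K) B) := by
    rw [Ideal.map_span, Set.image_singleton, RingHom.algebraMap_toAlgebra]
    simp
  rw [hI, Ideal.isRadical_iff_quotient_reduced]
  let e := Algebra.TensorProduct.quotIdealMapEquivQuotTensor B I
  exact isReduced_of_injective e.toRingEquiv.toRingHom e.injective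

theorem IsCoord.mem_nonZeroDivisors (hx : IsCoord K x) (j : σ) : x j ∈ nonZeroDivisors B := by
  letI := (aeval x : MvPolynomial σ K →ₐ[K] B).toRingHom.toAlgebra
  haveI : Algebra.Etale (MvPolynomial σ K) B := hx
  have h : IsSMulRegular (MvPolynomial σ K) (MvPolynomial.X j : MvPolynomial σ K) := fun a b hab =>
    mul_left_cancel₀ (MvPolynomial.X_ne_zero j) hab
  have h2 : IsSMulRegular B (MvPolynomial.X j : MvPolynomial σ K) := h.of_flat
  rw [mem_nonZeroDivisors_iff_right]
  intro a ha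
  apply h2
  simp only [smul_zero, Algebra.smul_def, RingHom.algebraMap_toAlgebra]
  simpa [mul_comm] using ha

end Field

end GrothLib.CycNorm12
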