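import Groth.Agent.Lib.CycNorm12.Local
import Groth.Agent.Lib.Ample.Frame
import Groth.Agent.Lib.IdealModSec.Basic
import Groth.Agent.Lib.InvExt.Transfer
import Groth.Agent.Lib.OX.DualPerfect

/-!
# The direct image of the structure sheaf of the normalised cyclic cover
-/

set_option autoImplicit false
set_option linter.all false
set_option backward.isDefEq.respectTransparency false

universe u

open CategoryTheory CategoryTheory.Limits AlgebraicGeometry Opposite TopologicalSpace
open GrothLib.InvExt (mres fres IsGen)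
open GrothLib.VA (tm tm_smul_left tm_smul_right mres_tm isGen_tm)

noncomputable section

namespace GrothLib.CycNorm12

theorem dvd_of_prod_X_dvd {K : Type u} [Field K] {σ : Type u} (a : MvPolynomial σ K) :
    ∀ S : Finset σ, (∀ i ∈ S, MvPolynomial.X i ∣ a) → ∏ i ∈ S, MvPolynomial.X i ∣ a := by
  classical
  intro S
  induction S using Finset.induction_on with
  | empty => simp
  | @insert i S hi ih =>
    intro h
    obtain ⟨b, hb⟩ := ih fun l hl => h l (Finset.mem_insert_of_mem hl)
    have h1 := h i (Finset.mem_insert_self i S)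
    rw [hb] at h1
    obtain ⟨c, hc⟩ := (MvPolynomial.X_prime.dvd_or_dvd h1).resolve_left fun h2 => by
      obtain ⟨l, hl, hil⟩ := MvPolynomial.X_prime.exists_mem_finset_dvd h2
      exact hi (MvPolynomial.X_dvd_X.1 hil ▸ hl)
    exact ⟨c, by rw [Finset.prod_insert hi, hb, hc]; ring⟩

open scoped TensorProduct in
theorem IsCoord.isRadical_span_prod {K B : Type u} [Field K] [CommRing B] [Algebra K B] {σ : Type u} {x : σ → B}
    (hx : IsCoord K x) (S : Finset σ) : (Ideal.span {∏ i ∈ S, x i}).IsRadical := by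
  letI := (MvPolynomial.aeval x : MvPolynomial σ K →ₐ[K] B).toRingHom.toAlgebra
  haveI : Algebra.Etale (MvPolynomial σ K) B := hx
  let I : Ideal (MvPolynomial σ K) := Ideal.span {∏ i ∈ S, MvPolynomial.X i}
  have hI0 : I.IsRadical := by
    rintro a ⟨n, hn⟩
    exact Ideal.mem_span_singleton.2 (dvd_of_prod_X_dvd a S fun i hi =>
      MvPolynomial.X_prime.dvd_of_dvd_pow ((Finset.dvd_prod_of_mem _ hi).trans (Ideal.mem_span_singleton.1 hn)))
  haveI : IsReduced (MvPolynomial σ K ⧸ I) := (Ideal.isRadical_iff_quotient_reduced I).1 hI0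
  haveI := Hensel.isReduced_of_etale (MvPolynomial σ K ⧸ I) ((MvPolynomial σ K ⧸ I) ⊗[MvPolynomial σ K] B)
  have hI : Ideal.span {∏ i ∈ S, x i} = I.map (algebraMap (MvPolynomial σ K) B) := by
    rw [Ideal.map_span, Set.image_singleton, RingHom.algebraMap_toAlgebra]
    simp
  rw [hI, Ideal.isRadical_iff_quotient_reduced]
  exact isReduced_of_injective (Algebra.TensorProduct.quotIdealMapEquivQuotTensor B I).toRingEquiv.toRingHom
    (Algebra.TensorProduct.quotIdealMapEquivQuotTensor B I).injective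

variable {X Y : Scheme.{u}}

/-- A morphism of modules bijective on the affine opens below the pieces of a cover is an isomorphism. -/
theorem isIso_of_affine_cover {M M' : X.Modules} (φ : M ⟶ M') {ι : Type*} (D : ι → X.Opens) (hD : ⨆ i, D i = ⊤)
    (h : ∀ (i) (W : X.affineOpens), W.1 ≤ D i → Function.Bijective (φ.app W.1)) : IsIso φ := by
  refine Ample.isIso_of_cover φ D hD fun i V hV => ?_
  have hinj : ∀ T : X.Opens, T ≤ D i → Function.Injective (φ.app T) := by
    intro T hT a b hab
    refine Ample.meq_of_cover M (fun A : {A : X.affineOpens // A.1 ≤ T} => A.1.1) (fun A => A.2) (fun x hx => ?_)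
      fun A => (h i A.1 (A.2.trans hT)).1 ?_
    · obtain ⟨A, hxA, hA⟩ := BlowUp.exists_affine_mem_le hx
      exact Opens.mem_iSup.2 ⟨⟨A, hA⟩, hxA⟩
    · rw [Ample.app_mres, Ample.app_mres, hab]
  refine ⟨hinj V hV, fun b => ?_⟩
  let J := {A : X.affineOpens // A.1 ≤ V}
  have hc : V ≤ ⨆ A : J, A.1.1 := fun x hx => by
    obtain ⟨A, hxA, hA⟩ := BlowUp.exists_affine_mem_le hx
    exact Opens.mem_iSup.2 ⟨⟨A, hA⟩, hxA⟩
  choose a ha using fun A : J => (h i A.1 (A.2.trans hV)).2 (mres M' A.2 b)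
  obtain ⟨t, ht, -⟩ := TopCat.Sheaf.existsUnique_gluing' ⟨M.presheaf, M.isSheaf⟩ (fun A : J => A.1.1) V
    (fun A => homOfLE A.2) hc a fun A A' => hinj (A.1.1 ⊓ A'.1.1) (inf_le_left.trans (A.2.trans hV)) (by
      show φ.app _ (mres M inf_le_left (a A)) = φ.app _ (mres M inf_le_right (a A'))
      rw [Ample.app_mres, Ample.app_mres, ha, ha, InvExt.mres_mres, InvExt.mres_mres])
  let t' : Γ(M, V) := t
  refine ⟨t', Ample.meq_of_cover M' (fun A : J => A.1.1) (fun A => A.2) hc fun A => ?_⟩
  rw [← Ample.app_mres, show mres M A.2 t' = a A from ht A, ha]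

/-- A morphism is determined by compatible images of frames. -/
theorem exists_hom_of_frames {M M' : X.Modules} {ι : Type u} (V : ι → X.Opens) (hV : ⨆ i, V i = ⊤) (e : ∀ i, Γ(M, V i))
    (he : ∀ i, IsGen M (V i) (e i)) (n : ∀ i, Γ(M', V i))
    (hn : ∀ (x y : ι) (W : X.Opens) (hx : W ≤ V x) (hy : W ≤ V y) (a : Γ(X, W)),
      mres M hy (e y) = a • mres M hx (e x) → mres M' hy (n y) = a • mres M' hx (n x)) :
    ∃ φ : M ⟶ M', ∀ i, φ.app (V i) (e i) = n i := by
  choose g hg using fun x y : ι => (he x).exists_smul_eq (inf_le_left : V x ⊓ V y ≤ V x)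
    (mres M inf_le_right (e y))
  have hres : ∀ (x y : ι) (W : X.Opens) (hx : W ≤ V x) (hy : W ≤ V y),
      mres M hy (e y) = Ample.res (le_inf hx hy) (g x y) • mres M hx (e x) := by
    intro x y W hx hy
    have := congrArg (mres M (le_inf hx hy)) (hg x y)
    rwa [InvExt.mres_mres, Ample.mres_smul', InvExt.mres_mres] at this
  let c : Ample.Cocycle X :=
    { ι := ι
      D := V
      g := g
      cover := hV
      self := fun i W h => (he i).smul_left_injective h (by rw [← hres i i W h h, one_smul])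
      change := fun i j k W hi hj hk => (he i).smul_left_injective hi (by
        rw [← hres i k W hi hk, hres j k W hj hk, hres i j W hi hj, smul_smul, mul_comm]) }
  have hm : c.IsFamily 1 (M := M) e := fun i j W hi hj => by rw [pow_one]; exact hres i j W hi hj
  have hm' : c.IsFamily 1 (M := M') n := fun i j W hi hj => by
    rw [pow_one]; exact hn i j W hi hj _ (hres i j W hi hj)
  haveI := c.isIso_homOfFamily hm he
  refine ⟨inv (c.homOfFamily hm) ≫ c.homOfFamily hm', fun i => ?_⟩
  have h1 : (c.homOfFamily hm).app (V i) (c.base 1 i le_rfl) = e i := by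
    rw [c.homOfFamily_base hm i le_rfl, InvExt.mres_self]
  rw [← h1]
  show (c.homOfFamily hm').app (V i) ((inv (c.homOfFamily hm)).app (V i) ((c.homOfFamily hm).app (V i) _)) = _
  have h2 : ∀ t, (inv (c.homOfFamily hm)).app (V i) ((c.homOfFamily hm).app (V i) t) = t := fun t =>
    congr(Scheme.Modules.Hom.app $(IsIso.hom_inv_id (c.homOfFamily hm)) (V i) t)
  rw [h2, c.homOfFamily_base hm' i le_rfl, InvExt.mres_self]

theorem prod_res {U W : X.Opens} (h : W ≤ U) {ι : Type*} [Fintype ι] (g : ι → Γ(X, U)) (q : ι → ℕ) :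
    X.presheaf.map (homOfLE h).op (∏ j, g j ^ q j) = ∏ j, X.presheaf.map (homOfLE h).op (g j) ^ q j := by
  simp [map_prod]

theorem res_comp {U W T : X.Opens} (h : W ≤ U) (h' : T ≤ W) (a : Γ(X, U)) :
    X.presheaf.map (homOfLE h').op (X.presheaf.map (homOfLE h).op a) = X.presheaf.map (homOfLE (h'.trans h)).op a := by
  rw [← CommRingCat.comp_apply, ← Functor.map_comp]; rfl

/-- Equations of all components near a point. -/
theorem exists_equations {k : Type u} [Field k] (f : X ⟶ Spec (CommRingCat.of k)) [IsIntegral X] {r : ℕ}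
    (D : Fin r → X.IdealSheafData) (hD : LogNCD.IsNCD D f) (x : X) (O : X.Opens) (hxO : x ∈ O) :
    ∃ (U : X.affineOpens) (_ : x ∈ U.1) (_ : U.1 ≤ O) (g : Fin r → Γ(X, U.1)), (∀ j, (D j).ideal U = Ideal.span {g j}) ∧
      ∀ (W : X.affineOpens) [Nonempty W.1] (h : W.1 ≤ U.1),
        (∀ j, X.presheaf.map (homOfLE h).op (g j) ≠ 0) ∧
          (Ideal.span {∏ j, X.presheaf.map (homOfLE h).op (g j)}).IsRadical := by
  classical
  by_cases hT : Nonempty (LogNCD.Through D x)
  · obtain ⟨W₀, hxW₀, n, v₀, e, hinj, het, hideal, hout⟩ := hD x hT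
    obtain ⟨U, hU, hxU, hle⟩ := exists_isAffineOpen_mem_and_subset (show x ∈ O ⊓ W₀ from ⟨hxO, hxW₀⟩)
    have hUW₀ : U ≤ W₀ := fun a ha => (hle ha).2
    let g : Fin r → Γ(X, U) := fun j =>
      if h : x ∈ (D j).support then LogNCD.sectOn W₀ hUW₀ (v₀ ⟨e ⟨j, h⟩⟩) else 1
    refine ⟨⟨U, hU⟩, hxU, fun a ha => (hle ha).1, g, fun j => ?_, fun W _ h => ?_⟩
    · by_cases hj : x ∈ (D j).support
      · simp only [g, dif_pos hj]; exact hideal ⟨j, hj⟩ ⟨U, hU⟩ hUW₀
      · simp only [g, dif_neg hj, Ideal.span_singleton_one]; exact hout j hj ⟨U, hU⟩ hUW₀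
    letI := (kc f W.1).toAlgebra
    have hx' := isCoord_of_etale f W₀ v₀ W (h.trans hUW₀)
    set xs := fun i => LogNCD.sectOn W₀ (h.trans hUW₀) (v₀ i)
    have hg : ∀ j, X.presheaf.map (homOfLE h).op (g j) = if hj : x ∈ (D j).support then xs ⟨e ⟨j, hj⟩⟩ else 1 := by
      intro j
      by_cases hj : x ∈ (D j).support
      · simp only [g, dif_pos hj, xs, LogNCD.sectOn_apply]
        exact res_comp hUW₀ h _
      · simp only [g, dif_neg hj, map_one]
    refine ⟨fun j => ?_, ?_⟩
    · rw [hg]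
      split_ifs with hj
      · exact nonZeroDivisors.ne_zero (hx'.mem_nonZeroDivisors _)
      · exact one_ne_zero
    · let ee : {j : Fin r // x ∈ (D j).support} → ULift.{u} (Fin n) := fun i => ⟨e i⟩
      have hee : Function.Injective ee := fun a b hab => hinj (congrArg ULift.down hab)
      have hp : ∏ j, X.presheaf.map (homOfLE h).op (g j) = ∏ i ∈ Finset.univ.image ee, xs i := by
        rw [Finset.prod_image fun a _ b _ hab => hee hab, Finset.prod_congr rfl fun j _ => hg j,
          ← Fintype.prod_subtype_mul_prod_subtype (fun j : Fin r => x ∈ (D j).support)]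
        rw [Finset.prod_eq_one (s := (Finset.univ : Finset {j : Fin r // ¬ x ∈ (D j).support}))
          (fun j _ => dif_neg j.2), mul_one]
        exact Finset.prod_congr rfl fun j _ => dif_pos j.2
      rw [hp]
      exact hx'.isRadical_span_prod _
  · have hcl : IsClosed (⋃ j, ((D j).support : Set X)) := isClosed_iUnion_of_finite fun j => (D j).support.isClosed
    let O' : X.Opens := ⟨_, hcl.isOpen_compl⟩
    have hxO' : x ∈ O' := fun hm => by
      obtain ⟨j, hj⟩ := Set.mem_iUnion.1 hm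
      exact hT ⟨⟨j, hj⟩⟩
    obtain ⟨U, hU, hxU, hle⟩ := exists_isAffineOpen_mem_and_subset (show x ∈ O ⊓ O' from ⟨hxO, hxO'⟩)
    refine ⟨⟨U, hU⟩, hxU, fun a ha => (hle ha).1, fun _ => 1, fun j => ?_, fun W _ h => ⟨fun j => by simp, ?_⟩⟩
    · rw [Ideal.span_singleton_one]
      exact ideal_eq_top_of_disjoint _ ⟨U, hU⟩
        (Set.disjoint_left.2 fun a ha hb => (hle ha).2 (Set.mem_iUnion.2 ⟨j, hb⟩))
    · simp only [map_one, Finset.prod_const_one, Ideal.span_singleton_one]
      exact fun a _ => Submodule.mem_top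

theorem ideal_divIdeal_eq_prod {r : ℕ} (D : Fin r → X.IdealSheafData) (β : Fin r → ℕ) (U : X.affineOpens)
    (g : Fin r → Γ(X, U.1)) (hg : ∀ j, (D j).ideal U = Ideal.span {g j}) :
    (CycCov.divIdeal D β).ideal U = Ideal.span {∏ j, g j ^ β j} := by
  rw [CycCov.divIdeal, SymHilb26.ideal_prod, ← Ideal.prod_span_singleton]
  exact Finset.prod_congr rfl fun j _ => by rw [FormalExist7.ideal_pow_apply, hg, Ideal.span_singleton_pow]

variable {k : Type u} [Field k] [IsAlgClosed k] {L : X.Modules} {N : ℕ}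
  {s : Coh.structureModule X ⟶ CohB1.tensorPow L N} {π : Y ⟶ X} {r : ℕ} {D : Fin r → X.IdealSheafData}
  {α : Fin r → ℕ}

theorem exists_isColimit_cofan (f : X ⟶ Spec (CommRingCat.of k)) [Smooth f] [IsIntegral X]
    (hL : PicF.IsInvertible L) (hN : 0 < N) (hNk : (N : k) ≠ 0) (hD : LogNCD.IsNCD D f)
    (hs : CycCov.IsZeroDiv (CohB1.tensorPow L N) s (CycCov.divIdeal D α)) (R : CycCov.Root L N s π)
    (hR : CycCov.IsCover R) (M : Fin N → X.Modules)
    (hM : ∀ i : Fin N, ClSub.IsInverseOf (CycCov.intPart L D α N i) (M i)) :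
    ∃ c : ∀ i : Fin N, M i ⟶ (Scheme.Modules.pushforward π).obj (Coh.structureModule Y),
      Nonempty (IsColimit (Cofan.mk ((Scheme.Modules.pushforward π).obj (Coh.structureModule Y)) c)) := by
  classical
  letI : X.Over (Spec (CommRingCat.of k)) := ⟨f⟩
  haveI : Smooth (X ↘ Spec (CommRingCat.of k)) := ‹Smooth f›
  have hX : Pi1.IsNormalScheme X := Hilb20.isNormalScheme_of_smooth (k := k)
  haveI : IsFinite π := hR.1
  haveI : NeZero (N : k) := ⟨hNk⟩
  haveI : NeZero N := ⟨hN.ne'⟩
  obtain ⟨ζ₀, hζ₀⟩ := HasEnoughRootsOfUnity.exists_primitiveRoot k N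
  choose V ε₁ hxV hε₁ using InvExt.exists_gen_nhd hL
  choose U hxU hUV g hg hgW using fun x => exists_equations f D hD x (V x) (hxV x)
  haveI : ∀ x, Nonempty (U x).1 := fun x => ⟨⟨x, hxU x⟩⟩
  let ε : ∀ x, Γ(L, (U x).1) := fun x => mres L (hUV x) (ε₁ x)
  have hε : ∀ x, IsGen L (U x).1 (ε x) := fun x => (hε₁ x).restrict (hUV x)
  let G : ∀ x, Fin N → Γ(X, (U x).1) := fun x i => ∏ j, g x j ^ ((i : ℕ) * α j / N)
  -- generators on every small affine
  have hgens : ∀ (x : X) (W : X.affineOpens) [Nonempty W.1] (h : W.1 ≤ (U x).1),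
      (∀ i, X.presheaf.map (homOfLE h).op (G x i) ≠ 0) ∧ ∃ z : Fin N → Γ(Y, π ⁻¹ᵁ W.1),
        (∀ i : Fin N, (π.app W.1).hom (X.presheaf.map (homOfLE h).op (G x i)) * z i =
          R.t W (mres L h (ε x)) (cycGen ((hε x).restrict h)) ^ (i : ℕ)) ∧
        Function.Bijective fun a : Fin N → Γ(X, W.1) => ∑ i, (π.app W.1).hom (a i) * z i := by
    intro x W _ h
    obtain ⟨hg0, hrad⟩ := hgW x W h
    refine ⟨fun i => ?_, ?_⟩
    · rw [prod_res]
      exact Finset.prod_ne_zero_iff.2 fun j _ => pow_ne_zero _ (hg0 j)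
    obtain ⟨f₀, hf₀⟩ := exists_coef (s := s) ((hε x).restrict h)
    have hI : (CycCov.divIdeal D α).ideal W = Ideal.span {∏ j, X.presheaf.map (homOfLE h).op (g x j) ^ α j} :=
      ideal_divIdeal_eq_prod D α W _ fun j => by
        rw [← (D j).map_ideal (U := W) (V := U x) h, hg, Ideal.map_span, Set.image_singleton]
        rfl
    obtain ⟨v, hv, hfv⟩ := exists_unit_coef ((hε x).restrict h) hf₀ _ hs _
      (Finset.prod_ne_zero_iff.2 fun j _ => pow_ne_zero _ (hg0 j)) hI
    obtain ⟨z, hz, hb⟩ := exists_frame_gens R hX hR hN W _ ((hε x).restrict h) f₀ hf₀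
      (by rw [← map_natCast (kc f W.1) N]; exact (isUnit_iff_ne_zero.2 hNk).map _) (kc f W.1 ζ₀)
      (hζ₀.map_of_injective (f := (X.germToFunctionField W.1).hom.comp (kc f W.1)) (RingHom.injective _))
      (fun j => X.presheaf.map (homOfLE h).op (g x j)) α v hv hfv hg0 hrad
    exact ⟨z, fun i => by rw [prod_res]; exact hz i, hb⟩
  choose hG0 z hz hb using hgens
  let zx : ∀ x, Fin N → Γ(Y, π ⁻¹ᵁ (U x).1) := fun x => z x (U x) le_rfl
  have hG1 : ∀ x i, G x i ≠ 0 := fun x i => by
    have := hG0 x (U x) le_rfl i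
    rwa [show (homOfLE (le_refl (U x).1)).op = 𝟙 _ from rfl, CategoryTheory.Functor.map_id] at this
  have hzx : ∀ x i, (π.app (U x).1).hom (G x i) * zx x i = R.t (U x) (ε x) (cycGen (hε x)) ^ (i : ℕ) := fun x i => by
    have := hz x (U x) le_rfl i
    simp only [InvExt.mres_self] at this
    rwa [show (homOfLE (le_refl (U x).1)).op = 𝟙 _ from rfl, CategoryTheory.Functor.map_id] at this
  -- restrictions of the generators
  have hzres : ∀ (x : X) (W : X.affineOpens) [Nonempty W.1] (h : W.1 ≤ (U x).1) (i : Fin N),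
      Y.presheaf.map (homOfLE (π.preimage_mono h)).op (zx x i) = z x W h i := by
    intro x W _ h i
    refine (mul_cancel_left_mem_nonZeroDivisors
      (app_mem_nonZeroDivisors R hR hN W _ ((hε x).restrict h) _ (hG0 x W h i))).1 ?_
    rw [hz x W h i, ← res_app h, ← map_mul, hzx, map_pow]
    exact congrArg (· ^ (i : ℕ)) (R.t_res (U x) W h (ε x) (cycGen (hε x)) (cycGen ((hε x).restrict h)))
  -- the ideal frames
  have hJ : ∀ x (i : Fin N), (CycCov.floorIdeal D α N i).ideal (U x) = Ideal.span {G x i} := fun x i =>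
    ideal_divIdeal_eq_prod D _ (U x) (g x) (hg x)
  choose kG hkG using fun x (i : Fin N) => IdealModSec.exists_val_eq (CycCov.floorIdeal D α N i) (U x)
    (show G x i ∈ _ by rw [hJ]; exact Ideal.mem_span_singleton_self _)
  have hkgen : ∀ x (i : Fin N), IsGen (ClSub.idealMod (CycCov.floorIdeal D α N i)) (U x).1 (kG x i) := fun x i => by
    refine IdealModSec.isGen_of_cartierOn ?_ (by rw [hkG, hJ])
    rw [hkG]
    exact mem_nonZeroDivisors_of_ne_zero (hG1 x i)
  let P : Fin N → X.Modules := fun i => CycCov.intPart L D α N i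
  let p : ∀ x (i : Fin N), Γ(P i, (U x).1) := fun x i => tm (TensorGen.pw L (ε x) i) (kG x i)
  have hp : ∀ x i, IsGen (P i) (U x).1 (p x i) := fun x i =>
    isGen_tm (TensorGen.isGen_pw L (hε x) i) (hkgen x i)
  let η : ∀ i : Fin N, CohB1.tensorMod (M i) (P i) ≅ Coh.structureModule X := fun i =>
    (((OX.tensorBraiding (X := X)).app (P i)).app (M i) : _) ≪≫ (hM i).some
  let pair : ∀ (i : Fin N) (W : X.Opens), Γ(M i, W) → Γ(P i, W) → Γ(X, W) := fun i W m q => (η i).hom.app W (tm m q)
  have hpair_res : ∀ (i : Fin N) {T W : X.Opens} (h : W ≤ T) (m : Γ(M i, T)) (q : Γ(P i, T)),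
      pair i W (mres (M i) h m) (mres (P i) h q) = X.presheaf.map (homOfLE h).op (pair i T m q) :=
    fun i T W h m q => by
      show (η i).hom.app W (tm _ _) = _
      rw [← mres_tm, Ample.app_mres]
      rfl
  have hpair_l : ∀ (i : Fin N) (W : X.Opens) (a : Γ(X, W)) (m : Γ(M i, W)) (q : Γ(P i, W)),
      pair i W (a • m) q = a * pair i W m q := fun i W a m q => by
    show (η i).hom.app W (tm _ _) = _
    rw [tm_smul_left, Ample.app_smul]; rfl
  have hpair_r : ∀ (i : Fin N) (W : X.Opens) (a : Γ(X, W)) (m : Γ(M i, W)) (q : Γ(P i, W)),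
      pair i W m (a • q) = a * pair i W m q := fun i W a m q => by
    show (η i).hom.app W (tm _ _) = _
    rw [tm_smul_right, Ample.app_smul]; rfl
  have hpair_b : ∀ (i : Fin N) (W : X.Opens) (q : Γ(P i, W)), IsGen (P i) W q →
      Function.Bijective fun m => pair i W m q := fun i W q hq => by
    have h1 : Function.Bijective ((η i).hom.app W) := ConcreteCategory.bijective_of_isIso _
    exact h1.comp (TensorGen.bijective_tm (M i) (P i) hq)
  choose m hm using fun x i => (hpair_b i (U x).1 (p x i) (hp x i)).2 1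
  simp only at hm
  have hmgen : ∀ x i, IsGen (M i) (U x).1 (m x i) := by
    intro x i W h
    have hb' := hpair_b i W _ ((hp x i).restrict h)
    have hcomp : ∀ c : Γ(X, W), pair i W (c • mres (M i) h (m x i)) (mres (P i) h (p x i)) = c := fun c => by
      rw [hpair_l, hpair_res, hm, map_one, mul_one]
    refine ⟨fun c c' hcc => ?_, fun t => ⟨pair i W t (mres (P i) h (p x i)), hb'.1 (hcomp _)⟩⟩
    rw [← hcomp c, ← hcomp c']
    exact congrArg (fun t => pair i W t (mres (P i) h (p x i))) hcc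
  let A : X.Modules := (Scheme.Modules.pushforward π).obj (Coh.structureModule Y)
  have hsmul : ∀ {W : X.Opens} (a : Γ(X, W)) (t : Γ(A, W)),
      (show Γ(Y, π ⁻¹ᵁ W) from a • t) = (π.app W).hom a * (show Γ(Y, π ⁻¹ᵁ W) from t) := fun a t => rfl
  -- compatibility
  have hcompat : ∀ (i : Fin N) (x y : X) (W : X.Opens) (hx : W ≤ (U x).1) (hy : W ≤ (U y).1) (a : Γ(X, W)),
      mres (M i) hy (m y i) = a • mres (M i) hx (m x i) →
      mres A hy (show Γ(A, (U y).1) from zx y i) = a • mres A hx (show Γ(A, (U x).1) from zx x i) := by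
    intro i x y W hx hy a ha
    refine Ample.meq_of_cover A (fun T : {T : X.affineOpens // T.1 ≤ W ∧ Nonempty T.1} => T.1.1) (fun T => T.2.1)
      (fun w hw => ?_) fun T => ?_
    · obtain ⟨T, hwT, hTW⟩ := BlowUp.exists_affine_mem_le hw
      exact Opens.mem_iSup.2 ⟨⟨T, hTW, ⟨⟨w, hwT⟩⟩⟩, hwT⟩
    obtain ⟨T, hTW, hne⟩ := T
    haveI := hne
    have hTx : T.1 ≤ (U x).1 := hTW.trans hx
    have hTy : T.1 ≤ (U y).1 := hTW.trans hy
    rw [InvExt.mres_mres, Ample.mres_smul', InvExt.mres_mres]
    set a' := Ample.res hTW a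
    show Y.presheaf.map (homOfLE (π.preimage_mono hTy)).op (zx y i) =
      (π.app T.1).hom a' * Y.presheaf.map (homOfLE (π.preimage_mono hTx)).op (zx x i)
    rw [hzres y T hTy, hzres x T hTx]
    have haT : mres (M i) hTy (m y i) = a' • mres (M i) hTx (m x i) := by
      have := congrArg (mres (M i) hTW) ha
      rwa [InvExt.mres_mres, Ample.mres_smul', InvExt.mres_mres] at this
    obtain ⟨c, hc⟩ := (hε x).exists_smul_eq hTx (mres L hTy (ε y))
    obtain ⟨b, hb₀⟩ := (hkgen x i).exists_smul_eq hTx (mres _ hTy (kG y i))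
    have hGb : X.presheaf.map (homOfLE hTy).op (G y i) = b * X.presheaf.map (homOfLE hTx).op (G x i) := by
      have := congrArg (IdealModSec.val _ T.1) hb₀
      rw [IdealModSec.val_smul, IdealModSec.val_mres, IdealModSec.val_mres, hkG, hkG] at this
      exact this
    have hpy : mres (P i) hTy (p y i) = (c ^ (i : ℕ) * b) • mres (P i) hTx (p x i) := by
      show mres _ hTy (tm _ _) = _ • mres _ hTx (tm _ _)
      rw [mres_tm, mres_tm, TensorGen.mres_pw, TensorGen.mres_pw, hc, TensorGen.pw_smul, hb₀, tm_smul_left,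
        tm_smul_right, smul_smul]
    have h1 : a' * (c ^ (i : ℕ) * b) = 1 := by
      have e1 : pair i T.1 (mres (M i) hTy (m y i)) (mres (P i) hTy (p y i)) = 1 := by rw [hpair_res, hm, map_one]
      rw [haT, hpy, hpair_l, hpair_r, hpair_res, hm, map_one, mul_one] at e1
      exact e1
    have ht : R.t T (mres L hTy (ε y)) (cycGen ((hε y).restrict hTy)) * (π.app T.1).hom c =
        R.t T (mres L hTx (ε x)) (cycGen ((hε x).restrict hTx)) := by
      have gen : ∀ (e' : Γ(L, T.1)) (he' : CycCov.IsGen L T.1 e'), e' = c • mres L hTx (ε x) →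
          R.t T e' he' * (π.app T.1).hom c = R.t T (mres L hTx (ε x)) (cycGen ((hε x).restrict hTx)) := by
        intro e' he' he
        subst he
        exact R.t_smul T _ (cycGen ((hε x).restrict hTx)) c he'
      exact gen _ _ hc
    have hzz : z x T hTx i = (π.app T.1).hom (c ^ (i : ℕ) * b) * z y T hTy i := by
      refine (mul_cancel_left_mem_nonZeroDivisors
        (app_mem_nonZeroDivisors R hR hN T _ ((hε x).restrict hTx) _ (hG0 x T hTx i))).1 ?_
      rw [hz x T hTx i, ← ht, mul_pow, ← hz y T hTy i, hGb, map_mul, map_mul, map_pow]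
      ring
    rw [hzz, ← mul_assoc, ← map_mul, h1, map_one, one_mul]
  have hcov : ⨆ x, (U x).1 = ⊤ := top_unique fun x _ => Opens.mem_iSup.2 ⟨x, hxU x⟩
  choose cmap hcmap using fun i => exists_hom_of_frames (fun x => (U x).1) hcov (fun x => m x i) (fun x => hmgen x i)
    (fun x => (show Γ(A, (U x).1) from zx x i)) (fun x y W hx hy a => hcompat i x y W hx hy a)
  refine ⟨cmap, ?_⟩
  haveI : HasFiniteBiproducts X.Modules := HasFiniteBiproducts.of_hasFiniteProducts
  let Φ : ⨁ M ⟶ A := biproduct.desc cmap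
  haveI : IsIso Φ := by
    refine isIso_of_affine_cover Φ (fun x => (U x).1) hcov fun x W hW => ?_
    by_cases hWne : Nonempty W.1
    swap
    · have hbot : W.1 = ⊥ := Opens.ext (Set.eq_empty_of_forall_notMem fun a ha => hWne ⟨⟨a, ha⟩⟩)
      haveI := InvExt.subsingleton_sections_of_eq_bot (⨁ M) hbot
      haveI := InvExt.subsingleton_sections_of_eq_bot A hbot
      exact ⟨Function.injective_of_subsingleton _, fun t => ⟨0, Subsingleton.elim _ _⟩⟩
    haveI := hWne
    let ins : (Fin N → Γ(X, W.1)) → Γ(⨁ M, W.1) := fun a =>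
      ∑ i, (biproduct.ι M i).app W.1 (a i • mres (M i) hW (m x i))
    have hins : ∀ a, Φ.app W.1 (ins a) = (show Γ(A, W.1) from ∑ i, (π.app W.1).hom (a i) * z x W hW i) := by
      intro a
      simp only [ins, map_sum]
      refine Finset.sum_congr rfl fun i _ => ?_
      have e1 : Φ.app W.1 ((biproduct.ι M i).app W.1 (a i • mres (M i) hW (m x i))) =
          (cmap i).app W.1 (a i • mres (M i) hW (m x i)) :=
        congr(Scheme.Modules.Hom.app $(biproduct.ι_desc cmap i) W.1 (a i • mres (M i) hW (m x i)))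
      rw [e1, Ample.app_smul, Ample.app_mres, hcmap, ← hzres x W hW i]
      rfl
    have hsurj : Function.Surjective ins := fun t => by
      refine ⟨fun i => Classical.choose (((hmgen x i).exists_smul_eq hW ((biproduct.π M i).app W.1 t))), ?_⟩
      have e : t = ∑ i, (biproduct.ι M i).app W.1 ((biproduct.π M i).app W.1 t) := by
        let ev : ((⨁ M) ⟶ ⨁ M) →+ Γ(⨁ M, W.1) :=
          { toFun := fun φ => φ.app W.1 t, map_zero' := rfl, map_add' := fun _ _ => rfl }
        have h2 := congrArg ev (biproduct.total (f := M))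
        rw [map_sum] at h2
        exact h2.symm
      conv_rhs => rw [e]
      exact Finset.sum_congr rfl fun i _ => congrArg _
        (Classical.choose_spec ((hmgen x i).exists_smul_eq hW ((biproduct.π M i).app W.1 t))).symm
    refine ⟨fun t t' htt => ?_, fun y => ?_⟩
    · obtain ⟨a, rfl⟩ := hsurj t
      obtain ⟨a', rfl⟩ := hsurj t'
      rw [hins, hins] at htt
      rw [(hb x W hW).1 htt]
    · obtain ⟨a, ha⟩ := (hb x W hW).2 y
      exact ⟨ins a, (hins a).trans ha⟩
  refine ⟨IsColimit.ofIsoColimit (biproduct.isColimit M) (Cofan.ext (asIso Φ) fun i => ?_)⟩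
  exact biproduct.ι_desc cmap i

end GrothLib.CycNorm12
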