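import Groth.Agent.Lib.CycNorm12.Coord
import Groth.Agent.Lib.RootCover26.Ring

/-!
# The ring of the normalised cyclic cover along one smooth component
-/

set_option autoImplicit false
set_option linter.all false
set_option backward.isDefEq.respectTransparency false

universe u

open GrothLib.RootCover26 (Root desc)

noncomputable section

namespace GrothLib.CycNorm12

/-- Divisibility of powers in a ring with normal local rings. -/
theorem dvd_of_pow_dvd {C : Type u} [CommRing C]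
    (hC : ∀ (m : Ideal C) [m.IsMaximal], IsDomain (Localization.AtPrime m) ∧ IsIntegrallyClosed (Localization.AtPrime m))
    {N : ℕ} (hN : 0 < N) {h x : C} (hh : h ∈ nonZeroDivisors C) (hd : h ^ N ∣ x ^ N) : h ∣ x := by
  let J : Ideal C := Submodule.comap (LinearMap.mulRight C x) (Ideal.span {h})
  have hmem : ∀ c, c ∈ J ↔ h ∣ c * x := fun c => Ideal.mem_span_singleton
  suffices hJ : J = ⊤ by
    have := (hmem 1).1 (hJ ▸ Submodule.mem_top)
    rwa [one_mul] at this
  by_contra hne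
  obtain ⟨m, hm, hle⟩ := Ideal.exists_le_maximal J hne
  obtain ⟨hdom, hic⟩ := @hC m hm
  let L := Localization.AtPrime m
  haveI : IsDomain L := hdom
  haveI : IsIntegrallyClosed L := hic
  have hh0 : algebraMap C L h ≠ 0 := fun h0 => by
    obtain ⟨⟨s, hs⟩, hs0⟩ := (IsLocalization.map_eq_zero_iff m.primeCompl L h).1 h0
    exact hs ((mem_nonZeroDivisors_iff_right.1 hh) s hs0 ▸ m.zero_mem)
  have h1 : algebraMap C L h ∣ algebraMap C L x :=
    (IsIntegrallyClosed.pow_dvd_pow_iff hN.ne').1 (by rw [← map_pow, ← map_pow]; exact map_dvd _ hd)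
  obtain ⟨y, hy⟩ := h1
  obtain ⟨⟨a, s, hs⟩, hy'⟩ := IsLocalization.surj m.primeCompl y
  have hkey : algebraMap C L (s * x) = algebraMap C L (h * a) := by
    rw [map_mul, map_mul, hy, ← hy']; ring
  obtain ⟨⟨s', hs'⟩, hss⟩ := (IsLocalization.eq_iff_exists m.primeCompl L).1 hkey
  have : s' * s ∈ J := (hmem _).2 ⟨s' * a, by rw [mul_assoc, hss]; ring⟩
  exact (hm.isPrime.mem_or_mem (hle this)).elim hs' hs

/-- Removing the pole from a root. -/
theorem exists_eq_of_pow_mul_prod {B K : Type u} [CommRing B] [IsDomain B] [Field K] [Algebra B K]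
    [IsFractionRing B K] [IsIntegrallyClosed B] {ι : Type*} [Fintype ι] (g : ι → B) (hg : ∀ j, g j ≠ 0)
    (hG : (Ideal.span {∏ j, g j}).IsRadical) (r : ι → ℕ) {N : ℕ} (hN : 0 < N) (hr : ∀ j, r j < N) (z : K) (b₀ : B)
    (hz : z ^ N * algebraMap B K (∏ j, g j ^ r j) = algebraMap B K b₀) : ∃ b : B, algebraMap B K b = z := by
  have e1 : (∏ j, g j) ^ N = (∏ j, g j ^ r j) * ((∏ j, g j ^ (N - r j - 1)) * ∏ j, g j) := by
    rw [← Finset.prod_pow, ← Finset.prod_mul_distrib, ← Finset.prod_mul_distrib]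
    refine Finset.prod_congr rfl fun j _ => ?_
    rw [← pow_succ, ← pow_add]
    congr 1
    have := hr j; omega
  have hint : IsIntegral B (z * algebraMap B K (∏ j, g j)) := by
    refine IsIntegral.of_pow hN ?_
    rw [mul_pow, ← map_pow, e1, map_mul, ← mul_assoc, hz, ← map_mul]
    exact isIntegral_algebraMap
  obtain ⟨b, hb⟩ := IsIntegrallyClosed.algebraMap_eq_of_integral hint
  have hbN : b ^ N = b₀ * ((∏ j, g j ^ (N - r j - 1)) * ∏ j, g j) := IsFractionRing.injective B K (by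
    rw [map_pow, hb, mul_pow, map_mul _ b₀, ← hz, mul_assoc, ← map_mul, ← map_pow, e1])
  obtain ⟨c, rfl⟩ := Ideal.mem_span_singleton.1 (hG ⟨N, Ideal.mem_span_singleton.2
    (Dvd.intro_left (b₀ * ∏ j, g j ^ (N - r j - 1)) (by rw [hbN]; ring))⟩)
  refine ⟨c, mul_left_cancel₀ (b := algebraMap B K c) ?_ ((map_mul (algebraMap B K) _ c).symm.trans (hb.trans (mul_comm _ _)))⟩
  rw [Ne, IsFractionRing.to_map_eq_zero_iff]
  exact Finset.prod_ne_zero_iff.2 fun j _ => hg j

section Cover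

variable {B C : Type u} [CommRing B] [IsDomain B] [CommRing C] (φ : B →+* C) (t : C) (g v : B) {N : ℕ} (α : ℕ)

theorem exists_generators (hN : 0 < N) (hv : IsUnit v) (hg : φ g ∈ nonZeroDivisors C) (z : Fin N → C)
    (hz : ∀ i : Fin N, φ g ^ ((i : ℕ) * α / N) * z i = t ^ (i : ℕ))
    (hT : t ^ N = φ v * φ g ^ α) (hb : Function.Bijective fun a : Fin N → B => ∑ i, φ (a i) * z i) :
    ∃ (u w : C) (m : ℕ) (hu : u ^ Nat.gcd N α = φ v)
      (hw : w ^ (N / Nat.gcd N α) = desc φ u hu (AdjoinRoot.of _ g * AdjoinRoot.root _ ^ m)),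
      m < N ∧ Function.Bijective (desc (desc φ u hu) w hw) := by
  set d := Nat.gcd N α
  set e := N / d
  set β := α / d
  have hd0 : 0 < d := Nat.gcd_pos_of_pos_left _ hN
  have hNde : d * e = N := Nat.mul_div_cancel' (Nat.gcd_dvd_left N α)
  have hαdβ : d * β = α := Nat.mul_div_cancel' (Nat.gcd_dvd_right N α)
  have he0 : 0 < e := Nat.pos_of_ne_zero fun h => by rw [h, Nat.mul_zero] at hNde; omega
  have heN : e ≤ N := Nat.div_le_self _ _
  have hdiv : ∀ i, i * α / N = i * β / e := fun i => by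
    rw [← hNde, ← hαdβ, Nat.mul_left_comm, Nat.mul_div_mul_left _ _ hd0]
  have hcan : ∀ (n : ℕ) {a b : C}, φ g ^ n * a = φ g ^ n * b → a = b := fun n a b h =>
    ((mul_cancel_left_mem_nonZeroDivisors (pow_mem hg n)).1 h)
  -- the unit
  obtain ⟨u, huz⟩ : ∃ u, φ g ^ β * u = t ^ e := by
    rcases heN.lt_or_eq with h | h
    · refine ⟨z ⟨e, h⟩, ?_⟩
      have := hz ⟨e, h⟩
      rwa [hdiv, Nat.mul_div_cancel_left _ he0] at this
    · refine ⟨φ v, ?_⟩
      have hd1 : d = 1 := by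
        rw [h] at hNde
        exact (Nat.mul_eq_right hN.ne').1 hNde
      rw [hd1, one_mul] at hαdβ
      rw [h, hT, hαdβ, mul_comm]
  have hu : u ^ d = φ v := hcan α (by
    rw [mul_comm (φ g ^ α) (φ v), ← hT, ← hNde, mul_comm d e, pow_mul, ← huz, mul_pow, ← pow_mul,
      mul_comm β d, hαdβ])
  have hdesc : ∀ m, desc φ u hu (AdjoinRoot.of _ g * AdjoinRoot.root _ ^ m) = φ g * u ^ m := fun m => by simp
  -- the other generator
  obtain ⟨w, m, hmN, hwe, hspan⟩ : ∃ w m, m < N ∧ w ^ e = φ g * u ^ m ∧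
      ∀ i : Fin N, ¬ e ∣ (i : ℕ) → ∃ r a b, z i * u ^ a = w ^ r * u ^ b := by
    rcases (show e = 1 ∨ 1 < e by omega) with h1 | h1
    · exact ⟨φ g, 0, hN, by rw [h1, pow_one, pow_zero, mul_one], fun i hi => absurd (h1 ▸ one_dvd _) hi⟩
    have hcop : Nat.Coprime β e := (Nat.coprime_div_gcd_div_gcd hd0).symm
    obtain ⟨m, hme, hm₀⟩ := Nat.exists_mul_mod_eq_one_of_coprime hcop h1
    have hm : m * β % e = 1 := by rw [Nat.mul_comm, hm₀]
    have hmN : m < N := hme.trans_le heN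
    set p := m * β / e
    have hp : p * e + 1 = m * β := by
      have := Nat.div_add_mod (m * β) e
      rw [hm, Nat.mul_comm e] at this
      exact this
    set w := z ⟨m, hmN⟩
    have hw : φ g ^ p * w = t ^ m := by have := hz ⟨m, hmN⟩; rwa [hdiv] at this
    refine ⟨w, m, hmN, hcan (p * e) ?_, fun i _ => ?_⟩
    · rw [pow_mul, ← mul_pow, hw, ← pow_mul, mul_comm m e, pow_mul, ← huz, mul_pow, ← pow_mul, ← mul_assoc,
        ← pow_mul, ← pow_succ, hp, mul_comm β m]
    set r := (i : ℕ) * β % e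
    have hmr : m * r % e = (i : ℕ) % e := by
      rw [Nat.mul_mod, Nat.mod_mod, ← Nat.mul_mod, Nat.mul_left_comm, Nat.mul_mod, hm, Nat.mul_one, Nat.mod_mod]
    obtain ⟨b, hb'⟩ : e ∣ (i : ℕ) + m * r * e - m * r := Nat.dvd_of_mod_eq_zero
      (Nat.sub_mod_eq_zero_of_mod_eq (by rw [Nat.add_mul_mod_self_right, hmr]))
    have hab : (i : ℕ) + m * r * e = m * r + b * e := by
      have := Nat.le_mul_of_pos_right (m * r) he0
      rw [Nat.mul_comm b]; omega
    refine ⟨r, m * r, b, hcan ((i : ℕ) * β / e + β * (m * r)) ?_⟩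
    have hq : (i : ℕ) * β / e * e + r = (i : ℕ) * β := by rw [Nat.mul_comm]; exact Nat.div_add_mod _ _
    have hexp : (i : ℕ) * β / e + β * (m * r) = p * r + β * b := by
      refine Nat.eq_of_mul_eq_mul_right he0 ?_
      zify at hq hab hp ⊢
      linear_combination hq + (β : ℤ) * hab - (r : ℤ) * hp
    have h1 := hz i
    rw [hdiv] at h1
    calc φ g ^ ((i : ℕ) * β / e + β * (m * r)) * (z i * u ^ (m * r))
        = (φ g ^ ((i : ℕ) * β / e) * z i) * (φ g ^ β * u) ^ (m * r) := by rw [pow_add, mul_pow, ← pow_mul]; ring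
      _ = t ^ (m * r + b * e) := by rw [h1, huz, ← pow_mul, ← pow_add, ← hab, mul_comm e]
      _ = (φ g ^ p * w) ^ r * (φ g ^ β * u) ^ b := by rw [hw, huz, ← pow_mul, ← pow_mul, ← pow_add, mul_comm e]
      _ = φ g ^ ((i : ℕ) * β / e + β * (m * r)) * (w ^ r * u ^ b) := by
        rw [hexp, pow_add, mul_pow, mul_pow, ← pow_mul, ← pow_mul]; ring
  refine ⟨u, w, m, hu, hwe.trans (hdesc m).symm, hmN, ?_⟩
  set ψ := desc (desc φ u hu) w (hwe.trans (hdesc m).symm)
  have hψB : ∀ b, φ b ∈ ψ.range := fun b => ⟨AdjoinRoot.of _ (AdjoinRoot.of _ b), by simp [ψ]⟩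
  have hψu : u ∈ ψ.range := ⟨AdjoinRoot.of _ (AdjoinRoot.root _), by simp [ψ]⟩
  have hψw : w ∈ ψ.range := ⟨AdjoinRoot.root _, by simp [ψ]⟩
  have hzr : ∀ i, z i ∈ ψ.range := by
    intro i
    obtain ⟨vi, hvi⟩ := hv
    by_cases hi : e ∣ (i : ℕ)
    · obtain ⟨l, hl⟩ := hi
      have h1 := hz i
      rw [hdiv, hl, Nat.mul_assoc, Nat.mul_div_cancel_left _ he0, pow_mul t, ← huz, mul_pow, ← pow_mul, mul_comm β l] at h1
      rw [hcan _ h1]
      exact pow_mem hψu l
    · obtain ⟨r, a, b, hab⟩ := hspan i hi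
      set ui := u ^ (d - 1) * φ ((vi⁻¹ : Bˣ) : B)
      have hui : u * ui = 1 := by
        rw [← mul_assoc, ← pow_succ', Nat.sub_add_cancel hd0, hu, ← map_mul, ← hvi, Units.mul_inv, map_one]
      have : z i = w ^ r * u ^ b * ui ^ a := by rw [← hab, mul_assoc, ← mul_pow, hui, one_pow, mul_one]
      rw [this]
      exact mul_mem (mul_mem (pow_mem hψw r) (pow_mem hψu b)) (pow_mem (mul_mem (pow_mem hψu _) (hψB _)) a)
  have hsurj : Function.Surjective ψ := fun c => by
    obtain ⟨a, rfl⟩ := hb.2 c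
    exact sum_mem fun i _ => mul_mem (hψB (a i)) (hzr i)
  refine ⟨?_, hsurj⟩
  set p₁ := Polynomial.X ^ d - Polynomial.C v
  have hm₁ : p₁.Monic := RootCover26.monic v hd0
  set p₂ := Polynomial.X ^ e - Polynomial.C (AdjoinRoot.of p₁ g * AdjoinRoot.root p₁ ^ m)
  have hm₂ : p₂.Monic := RootCover26.monic _ he0
  haveI := hm₁.finite_adjoinRoot
  haveI := hm₁.free_adjoinRoot
  haveI := hm₂.finite_adjoinRoot
  haveI := hm₂.free_adjoinRoot
  haveI : Module.Finite B (AdjoinRoot p₂) := Module.Finite.trans (AdjoinRoot p₁) _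
  haveI : Module.Free B (AdjoinRoot p₂) := Module.Free.trans (S := AdjoinRoot p₁)
  have h1r : Nontrivial (AdjoinRoot p₁) := by
    apply AdjoinRoot.nontrivial
    simp [p₁, Polynomial.degree_X_pow_sub_C hd0, hd0.ne']
  have hrank : Module.finrank B (AdjoinRoot p₂) = Module.finrank B (Fin N → B) := by
    rw [← Module.finrank_mul_finrank B (AdjoinRoot p₁) (AdjoinRoot p₂), Module.finrank_fin_fun,
      (AdjoinRoot.powerBasis' hm₁).finrank, (AdjoinRoot.powerBasis' hm₂).finrank]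
    show p₁.natDegree * p₂.natDegree = N
    rw [Polynomial.natDegree_X_pow_sub_C, Polynomial.natDegree_X_pow_sub_C, hNde]
  letI := φ.toAlgebra
  let ψl : AdjoinRoot p₂ →ₗ[B] C :=
    { toFun := ψ, map_add' := map_add ψ
      map_smul' := fun b y => by
        rw [Algebra.smul_def, Algebra.smul_def, map_mul, RingHom.id_apply]
        congr 1
        rw [IsScalarTower.algebraMap_apply B (AdjoinRoot p₁) (AdjoinRoot p₂)]
        exact (RootCover26.desc_of _ _ _ _).trans (RootCover26.desc_of _ _ _ _) }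
  let bl : (Fin N → B) →ₗ[B] C :=
    { toFun := fun a => ∑ i, φ (a i) * z i
      map_add' := fun a b => by simp [add_mul, Finset.sum_add_distrib]
      map_smul' := fun b a => by
        simp [Algebra.smul_def, Finset.mul_sum, mul_assoc, RingHom.algebraMap_toAlgebra] }
  let E := LinearEquiv.ofFinrankEq _ _ hrank
  let F := (LinearEquiv.ofBijective bl hb).symm.trans E.symm
  have hinj : Function.Injective (F.toLinearMap ∘ₗ ψl) :=
    OrzechProperty.injective_of_surjective_endomorphism _ (F.surjective.comp hsurj)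
  exact hinj.of_comp (f := F)

end Cover

/-- Étale coordinates on the cover. -/
theorem exists_coord_cover {k B C : Type u} [Field k] [CommRing B] [IsDomain B] [CommRing C] [Algebra k B] [Algebra k C]
    (φ : B →ₐ[k] C) {σ : Type u} [Finite σ] [DecidableEq σ] {x : σ → B} (hx : IsCoord k x) (j : σ)
    (v : B) (t : C) {N : ℕ} (α : ℕ) (hN : 0 < N) (hNk : (N : k) ≠ 0) (hv : IsUnit v)
    (hδ : ∀ m < N, IsUnit ((Nat.gcd N α : B) * v + x j * m * hx.pd j v))
    (hg : φ (x j) ∈ nonZeroDivisors C) (z : Fin N → C)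
    (hz : ∀ i : Fin N, φ (x j) ^ ((i : ℕ) * α / N) * z i = t ^ (i : ℕ))
    (hT : t ^ N = φ v * φ (x j) ^ α) (hb : Function.Bijective fun a : Fin N → B => ∑ i, φ (a i) * z i) :
    ∃ w ε : C, IsUnit ε ∧ φ (x j) = w ^ (N / Nat.gcd N α) * ε ∧
      IsCoord k (Function.update (fun i => φ (x i)) j w) := by
  obtain ⟨u, w, m, hu, hw, hmN, hbij⟩ := exists_generators φ.toRingHom t (x j) v α hN hv hg z hz hT hb
  set d := Nat.gcd N α
  set e := N / d
  have hd0 : 0 < d := Nat.gcd_pos_of_pos_left _ hN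
  have hdk : (d : k) ≠ 0 := fun h => hNk (by
    obtain ⟨q, hq⟩ := Nat.gcd_dvd_left N α
    rw [hq, Nat.cast_mul, h, zero_mul])
  have hdB : IsUnit (d : B) := by
    rw [← map_natCast (algebraMap k B)]; exact (isUnit_iff_ne_zero.2 hdk).map _
  set p₁ := Polynomial.X ^ d - Polynomial.C v
  haveI : Algebra.Etale B (AdjoinRoot p₁) := RootCover26.etale v hd0 hv hdB
  have hx₁ : IsCoord k fun i => AdjoinRoot.of p₁ (x i) := hx.trans (B := AdjoinRoot p₁)
  set u₁ := AdjoinRoot.root p₁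
  have hu₁ : u₁ ^ d = AdjoinRoot.of p₁ v := RootCover26.root_pow d v
  have hu₁u : IsUnit u₁ := (isUnit_pow_iff hd0.ne').1 (hu₁ ▸ hv.map _)
  set z₁ := AdjoinRoot.of p₁ (x j) * u₁ ^ m
  have hpd : hx₁.pd j (AdjoinRoot.of p₁ v) = AdjoinRoot.of p₁ (hx.pd j v) :=
    hx.pd_map (IsScalarTower.toAlgHom k B (AdjoinRoot p₁)) hx₁ (fun i => rfl) j v
  have hdu : (d : AdjoinRoot p₁) * u₁ ^ d * hx₁.pd j u₁ = u₁ * AdjoinRoot.of p₁ (hx.pd j v) := by
    rw [← hpd, ← hu₁]
    obtain ⟨d', hd'⟩ := Nat.exists_eq_succ_of_ne_zero hd0.ne'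
    rw [hd', Nat.succ_eq_add_one, hx₁.pd_pow j u₁ d']
    push_cast
    ring
  have hkey : (d : AdjoinRoot p₁) * u₁ ^ d * hx₁.pd j z₁ =
      u₁ ^ m * AdjoinRoot.of p₁ ((d : B) * v + x j * m * hx.pd j v) := by
    rw [hx₁.pd_mul, hx₁.pd_self, map_add, map_mul, map_mul, map_mul, map_natCast, map_natCast, ← hu₁]
    rcases Nat.eq_zero_or_pos m with hm | hm
    · simp [hm, hx₁.pd_one]
    · obtain ⟨m', rfl⟩ := Nat.exists_eq_succ_of_ne_zero hm.ne'
      rw [Nat.succ_eq_add_one, hx₁.pd_pow j u₁ m']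
      push_cast
      linear_combination AdjoinRoot.of p₁ (x j) * (m' + 1 : AdjoinRoot p₁) * u₁ ^ m' * hdu
  have hz₁ : IsUnit (hx₁.pd j z₁) := isUnit_of_mul_isUnit_right
    (hkey ▸ (hu₁u.pow m).mul ((hδ m hmN).map _))
  haveI : Algebra.FinitePresentation k B := by
    letI := hx.smooth
    infer_instance
  haveI : Algebra.FinitePresentation k (AdjoinRoot p₁) := inferInstance
  have hcoord := hx₁.adjoinRoot j z₁ hz₁ e
  set ψ := desc (desc φ.toRingHom u hu) w hw
  let Ψ : AdjoinRoot (Polynomial.X ^ e - Polynomial.C z₁) →ₐ[k] C :=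
    { ψ with
      commutes' := fun c => by
        show ψ _ = _
        rw [IsScalarTower.algebraMap_apply k (AdjoinRoot p₁) (AdjoinRoot (Polynomial.X ^ e - Polynomial.C z₁)),
          IsScalarTower.algebraMap_apply k B (AdjoinRoot p₁), AdjoinRoot.algebraMap_eq, AdjoinRoot.algebraMap_eq]
        exact ((RootCover26.desc_of _ _ _ _).trans (RootCover26.desc_of _ _ _ _)).trans (φ.commutes c) }
  have hu' : IsUnit u := (isUnit_pow_iff hd0.ne').1 (hu ▸ hv.map φ)
  obtain ⟨ε, hε⟩ := (hu'.pow m).exists_left_inv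
  refine ⟨w, ε, IsUnit.of_mul_eq_one _ hε, ?_, ?_⟩
  · have h1 : w ^ e = φ (x j) * u ^ m := by
      refine hw.trans ((map_mul _ _ _).trans ?_)
      rw [map_pow]
      exact congrArg₂ (· * ·) (RootCover26.desc_of _ _ _ _) (congrArg (· ^ m) (RootCover26.desc_root _ _ _))
    rw [h1]
    linear_combination (-(φ (x j))) * hε
  · unfold IsCoord at hcoord ⊢
    have e1 : (MvPolynomial.aeval (Function.update (fun i => φ (x i)) j w) : MvPolynomial σ k →ₐ[k] C) =
        Ψ.comp (MvPolynomial.aeval (Function.update (fun i => AdjoinRoot.of (Polynomial.X ^ e - Polynomial.C z₁)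
          (AdjoinRoot.of p₁ (x i))) j (AdjoinRoot.root _))) := MvPolynomial.algHom_ext fun i => by
      rw [AlgHom.comp_apply, MvPolynomial.aeval_X, MvPolynomial.aeval_X]
      by_cases hi : i = j
      · subst hi; rw [Function.update_self, Function.update_self]
        exact (RootCover26.desc_root _ w hw).symm
      · rw [Function.update_of_ne hi, Function.update_of_ne hi]
        exact ((RootCover26.desc_of _ w hw _).trans (RootCover26.desc_of _ u hu _)).symm
    rw [e1]
    exact RingHom.Etale.respectsIso.1 _ (RingEquiv.ofBijective Ψ.toRingHom hbij) hcoord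

end GrothLib.CycNorm12
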