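import Groth.Agent.Lib.CycNorm12.Sheaf
import Groth.Agent.Lib.CycNorm12.Ring

/-!
# Generators of the normalised cyclic cover over a frame
-/

set_option autoImplicit false
set_option linter.all false
set_option backward.isDefEq.respectTransparency false

universe u

open CategoryTheory AlgebraicGeometry Opposite TopologicalSpace
open Polynomial (C eval₂_sub eval₂_X_pow eval₂_C)
open GrothLib.InvExt (mres fres)

noncomputable section

namespace GrothLib.CycNorm12

variable {X Y : Scheme.{u}}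

theorem normal_localizations (hY : Pi1.IsNormalScheme Y) {U : Y.Opens} (hU : IsAffineOpen U) (p : Ideal Γ(Y, U))
    [p.IsMaximal] : IsDomain (Localization.AtPrime p) ∧ IsIntegrallyClosed (Localization.AtPrime p) := by
  let z := hU.fromSpec ⟨p, inferInstance⟩
  have hzU : z ∈ U := hU.range_fromSpec.le ⟨⟨p, inferInstance⟩, rfl⟩
  let _ := TopCat.Presheaf.algebra_section_stalk Y.presheaf (⟨z, hzU⟩ : U)
  have := hU.isLocalization_stalk' ⟨p, inferInstance⟩ hzU
  haveI := (hY z).1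
  haveI := (hY z).2
  let E := (IsLocalization.algEquiv p.primeCompl (Y.presheaf.stalk z) (Localization.AtPrime p)).toRingEquiv
  exact ⟨MulEquiv.isDomain (Y.presheaf.stalk z) E.symm.toMulEquiv, IsIntegrallyClosed.of_equiv E⟩

variable {L : X.Modules} {N : ℕ} {s : Coh.structureModule X ⟶ CohB1.tensorPow L N} {π : Y ⟶ X}
  (R : CycCov.Root L N s π) [IsIntegral X]

theorem res_app {U V : X.Opens} (h : V ≤ U) (b : Γ(X, U)) :
    Y.presheaf.map (homOfLE (π.preimage_mono h)).op ((π.app U).hom b) =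
      (π.app V).hom (X.presheaf.map (homOfLE h).op b) :=
  (congr($(π.naturality (homOfLE h).op) b)).symm

theorem app_mem_nonZeroDivisors (hR : CycCov.IsCover R) (hN : 0 < N) (U : X.affineOpens) [Nonempty U.1]
    (e : Γ(L, U.1)) (he : InvExt.IsGen L U.1 e) (b : Γ(X, U.1)) (hb : b ≠ 0) :
    (π.app U.1).hom b ∈ nonZeroDivisors Γ(Y, π ⁻¹ᵁ U.1) := by
  have hR' := hR
  obtain ⟨-, hY, W, hWd, -, hchart⟩ := hR'
  obtain ⟨V, hV, hne⟩ := exists_affine_le (O := U.1 ⊓ W) (nonempty_preirreducible_inter U.1.2 W.2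
    ⟨_, (Classical.arbitrary U.1).2⟩ hWd.nonempty)
  have h : V.1 ≤ U.1 := fun a ha => (hV ha).1
  haveI := hne
  obtain ⟨f, hf⟩ := exists_coef (s := s) he
  rw [mem_nonZeroDivisors_iff_right]
  intro z hz
  refine eq_zero_of_res R hR hN U V h e he z ?_
  have hb' := hchart V (fun a ha => (hV ha).2) (mres L h e) (cycGen (he.restrict h)) _ (val_res h e f hf)
  obtain ⟨y, hy⟩ := hb'.2 (Y.presheaf.map (homOfLE (π.preimage_mono h)).op z)
  obtain ⟨c, rfl⟩ := exists_coord N hN _ y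
  set b' := X.presheaf.map (homOfLE h).op b
  have h2 : CycCov.chart R V _ (cycGen (he.restrict h)) _ (val_res h e f hf)
      (∑ i, AdjoinRoot.of _ (c i * b') * AdjoinRoot.root _ ^ (i : ℕ)) = 0 := by
    have h3 := congrArg (Y.presheaf.map (homOfLE (π.preimage_mono h)).op) hz
    rw [map_zero, map_mul, res_app h, ← hy, chart_sum] at h3
    rw [chart_sum, ← h3, Finset.sum_mul]
    exact Finset.sum_congr rfl fun i _ => by rw [map_mul]; ring
  have hb0 : b' ≠ 0 := fun h0 => hb (res_injective h (h0.trans (map_zero _).symm))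
  have hc : ∀ i, c i = 0 := fun i =>
    (mul_eq_zero.1 (coord_eq_zero N hN _ _ (hb'.1 (h2.trans (map_zero _).symm)) i)).resolve_right hb0
  rw [← hy]
  simp [hc]

theorem exists_frame_gens (hX : Pi1.IsNormalScheme X) (hR : CycCov.IsCover R) (hN : 0 < N)
    (U : X.affineOpens) [Nonempty U.1] (e : Γ(L, U.1)) (he : InvExt.IsGen L U.1 e) (f : Γ(X, U.1))
    (hf : SecTwist.val s U.1 = f • CycCov.lpow L U.1 e N) (hNU : IsUnit (N : Γ(X, U.1))) (ζ : Γ(X, U.1))
    (hζ : IsPrimitiveRoot (X.germToFunctionField U.1 ζ) N) {ι : Type*} [Fintype ι] (g : ι → Γ(X, U.1)) (α : ι → ℕ)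
    (v : Γ(X, U.1)) (hv : IsUnit v) (hfv : f = v * ∏ j, g j ^ α j) (hg0 : ∀ j, g j ≠ 0)
    (hG : (Ideal.span {∏ j, g j}).IsRadical) :
    ∃ z : Fin N → Γ(Y, π ⁻¹ᵁ U.1),
      (∀ i : Fin N, (π.app U.1).hom (∏ j, g j ^ ((i : ℕ) * α j / N)) * z i = R.t U e (cycGen he) ^ (i : ℕ)) ∧
      Function.Bijective fun a : Fin N → Γ(X, U.1) => ∑ i, (π.app U.1).hom (a i) * z i := by
  have hR' := hR
  obtain ⟨hfin, hY, W, hWd, -, hchart⟩ := hR'
  haveI := hfin
  set φ := (π.app U.1).hom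
  set t := R.t U e (cycGen he)
  set Q : ℕ → Γ(X, U.1) := fun i => ∏ j, g j ^ (i * α j / N)
  have hQ0 : ∀ i, Q i ≠ 0 := fun i => Finset.prod_ne_zero_iff.2 fun j _ => pow_ne_zero _ (hg0 j)
  have hsplit : ∀ i : ℕ, f ^ i = Q i ^ N * (v ^ i * ∏ j, g j ^ (i * α j % N)) := fun i => by
    simp only [Q]
    rw [hfv, mul_pow, ← Finset.prod_pow, ← Finset.prod_pow, mul_left_comm, ← Finset.prod_mul_distrib]
    congr 1
    refine Finset.prod_congr rfl fun j _ => ?_
    rw [← pow_mul, ← pow_mul, ← pow_add, mul_comm (α j) i, mul_comm (i * α j / N) N, Nat.div_add_mod]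
  have hz : ∀ i : Fin N, φ (Q i) ∣ t ^ (i : ℕ) := fun i => by
    refine dvd_of_pow_dvd (fun m _ => normal_localizations hY (U.2.preimage π) m) hN
      (app_mem_nonZeroDivisors R hR hN U e he _ (hQ0 i)) ⟨φ (v ^ (i : ℕ) * ∏ j, g j ^ ((i : ℕ) * α j % N)), ?_⟩
    rw [← map_pow, ← map_mul, ← hsplit, map_pow, ← pow_mul, mul_comm (i : ℕ) N, pow_mul, R.pow_eq U e _ f hf]
  choose z hz using hz
  refine ⟨z, fun i => (hz i).symm, ?_⟩
  obtain ⟨V, hV, hne⟩ := exists_affine_le (O := U.1 ⊓ W) (nonempty_preirreducible_inter U.1.2 W.2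
    ⟨_, (Classical.arbitrary U.1).2⟩ hWd.nonempty)
  have hVU : V.1 ≤ U.1 := fun a ha => (hV ha).1
  haveI := hne
  have hbV := hchart V (fun a ha => (hV ha).2) (mres L hVU e) (cycGen (he.restrict hVU)) _ (val_res hVU e f hf)
  let ρ := Y.presheaf.map (homOfLE (π.preimage_mono hVU)).op
  let res := X.presheaf.map (homOfLE hVU).op
  haveI := isIntegrallyClosed_sections hX U.2
  haveI := functionField_isFractionRing_of_isAffineOpen X U.1 U.2
  let K := X.functionField
  let γ : Γ(X, V.1) →+* K := (X.germToFunctionField V.1).hom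
  have hγ : ∀ a, γ (res a) = algebraMap Γ(X, U.1) K a := fun a =>
    TopCat.Presheaf.germ_res_apply X.presheaf (homOfLE hVU) _ _ a
  have hres : ∀ a, a ≠ 0 → res a ≠ 0 := fun a ha h0 => ha (res_injective hVU (h0.trans (map_zero _).symm))
  set tV := R.t V (mres L hVU e) (cycGen (he.restrict hVU))
  have hρt : ρ t = tV := R.t_res U V hVU e (cycGen he) (cycGen (he.restrict hVU))
  have hρz : ∀ i : Fin N, (π.app V.1).hom (res (Q i)) * ρ (z i) = tV ^ (i : ℕ) := fun i => by
    rw [← res_app hVU, ← map_mul, ← hz i, map_pow, hρt]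
  -- every `ρ (z i)` in the basis `tV ^ i`
  obtain ⟨Qt, hQt⟩ : ∃ Qt : Fin N → Γ(X, U.1), ∀ i, Qt i ≠ 0 ∧ Qt i * Q i = ∏ l : Fin N, Q l :=
    ⟨fun i => ∏ l ∈ Finset.univ.erase i, Q l, fun i => ⟨Finset.prod_ne_zero_iff.2 fun l _ => hQ0 l,
      Finset.prod_erase_mul _ _ (Finset.mem_univ i)⟩⟩
  constructor
  · intro a b hab
    have h1 := congrArg (fun c => ρ (φ (∏ l : Fin N, Q l) * c)) hab
    simp only [Finset.mul_sum, map_sum] at h1
    have h2 : ∀ (a : Fin N → Γ(X, U.1)) (i : Fin N), ρ (φ (∏ l : Fin N, Q l) * (φ (a i) * z i)) =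
        (π.app V.1).hom (res (a i * Qt i)) * tV ^ (i : ℕ) := fun a i => by
      have e1 : ρ (φ (a i)) = (π.app V.1).hom (res (a i)) := res_app hVU _
      have e2 : ρ (φ (Qt i)) = (π.app V.1).hom (res (Qt i)) := res_app hVU _
      have e3 : ρ (φ (Q i)) = (π.app V.1).hom (res (Q i)) := res_app hVU _
      rw [← (hQt i).2, map_mul φ, map_mul, map_mul, map_mul, e1, e2, e3, ← hρz i, map_mul res.hom, map_mul]
      ring
    rw [Finset.sum_congr rfl fun i _ => h2 a i, Finset.sum_congr rfl fun i _ => h2 b i] at h1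
    rw [← chart_sum R V _ (cycGen (he.restrict hVU)) _ (val_res hVU e f hf),
      ← chart_sum R V _ (cycGen (he.restrict hVU)) _ (val_res hVU e f hf)] at h1
    funext i
    have h3 := coord_eq_zero N hN _ (fun i => res (a i * Qt i) - res (b i * Qt i)) (by
      simp only [map_sub, sub_mul, Finset.sum_sub_distrib]
      exact sub_eq_zero.2 (hbV.1 h1)) i
    exact mul_right_cancel₀ (hQt i).1 (res_injective hVU (sub_eq_zero.1 h3))
  · intro c
    obtain ⟨y, hy⟩ := hbV.2 (ρ c)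
    obtain ⟨b', rfl⟩ := exists_coord N hN _ y
    let a := algebraMap Γ(X, U.1) K f
    let Φ : AdjoinRoot (Polynomial.X ^ N - C (res f)) →+* KRoot K N a :=
      AdjoinRoot.lift ((AdjoinRoot.of _).comp γ) (AdjoinRoot.root _) (by
        rw [eval₂_sub, eval₂_X_pow, eval₂_C, root_pow_eq, RingHom.comp_apply, hγ, sub_self])
    obtain ⟨P, hPm, hP⟩ := (π.finite_app U.1 U.2).to_isIntegral c
    have hint : IsIntegral Γ(X, U.1) (∑ i, AdjoinRoot.of (Polynomial.X ^ N - C a) (γ (b' i)) *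
        AdjoinRoot.root _ ^ (i : ℕ)) := by
      refine ⟨P, hPm, ?_⟩
      have h2 : P.eval₂ ((AdjoinRoot.of (Polynomial.X ^ N - C (res f))).comp res.hom)
          (∑ i, AdjoinRoot.of _ (b' i) * AdjoinRoot.root _ ^ (i : ℕ)) = 0 := by
        refine hbV.1 ?_
        rw [map_zero, Polynomial.hom_eval₂, hy]
        have h3 : (CycCov.chart R V (mres L hVU e) (cycGen (he.restrict hVU)) _ (val_res hVU e f hf)).comp
            ((AdjoinRoot.of (Polynomial.X ^ N - C (res f))).comp res.hom) = ρ.hom.comp φ := by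
          refine RingHom.ext fun x => ?_
          have hof : ∀ z, CycCov.chart R V (mres L hVU e) (cycGen (he.restrict hVU)) _ (val_res hVU e f hf)
              (AdjoinRoot.of _ z) = (π.app V.1).hom z := fun z => by simp [CycCov.chart]
          exact (hof _).trans (res_app hVU x).symm
        rw [h3]
        exact (Polynomial.hom_eval₂ P _ ρ.hom c).symm.trans ((congrArg _ hP).trans (map_zero _))
      have h4 := congrArg Φ h2
      rw [map_zero, Polynomial.hom_eval₂] at h4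
      refine Eq.trans ?_ h4
      congr 1
      · refine RingHom.ext fun x => ?_
        simp [Φ, hγ, IsScalarTower.algebraMap_apply Γ(X, U.1) K (KRoot K N a), AdjoinRoot.algebraMap_eq]
      · simp [Φ, map_sum]
    have hb' : ∀ i : Fin N, ∃ a' : Γ(X, U.1), res a' = b' i * res (Q i) := fun i => by
      obtain ⟨b, hb⟩ := exists_eq_pow_mul hN hNU ζ hζ f (fun i => γ (b' i)) hint i
      obtain ⟨vu, hvu⟩ := hv
      obtain ⟨a', ha'⟩ := exists_eq_of_pow_mul_prod (K := K) g hg0 hG (fun j => (i : ℕ) * α j % N) hN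
        (fun j => Nat.mod_lt _ hN) (γ (b' i) * algebraMap Γ(X, U.1) K (Q i))
        (b * ((vu⁻¹ : (Γ(X, U.1))ˣ) : Γ(X, U.1)) ^ (i : ℕ)) (by
          rw [map_mul, map_pow, hb, ← map_pow (algebraMap Γ(X, U.1) K) f, hsplit, map_mul, map_mul, map_pow,
            map_pow, ← hvu, mul_pow]
          rw [show γ (b' i) ^ N * (algebraMap Γ(X, U.1) K (Q i) ^ N * (algebraMap Γ(X, U.1) K ↑vu ^ (i : ℕ) *
              algebraMap Γ(X, U.1) K (∏ j, g j ^ ((i : ℕ) * α j % N)))) * algebraMap Γ(X, U.1) K ↑vu⁻¹ ^ (i : ℕ) =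
            γ (b' i) ^ N * algebraMap Γ(X, U.1) K (Q i) ^ N * algebraMap Γ(X, U.1) K (∏ j, g j ^ ((i : ℕ) * α j % N)) *
              (algebraMap Γ(X, U.1) K ↑vu * algebraMap Γ(X, U.1) K ↑vu⁻¹) ^ (i : ℕ) by ring]
          rw [← map_mul (algebraMap Γ(X, U.1) K), Units.mul_inv, map_one, one_pow, mul_one])
      exact ⟨a', germ_injective_of_isIntegral X _ _ (((hγ a').trans ha').trans
        ((congrArg (γ (b' i) * ·) (hγ (Q i)).symm).trans (map_mul γ _ _).symm))⟩
    choose a' ha' using hb'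
    refine ⟨a', ?_⟩
    refine sub_eq_zero.1 (eq_zero_of_res R hR hN U V hVU e he _ ?_)
    rw [map_sub, sub_eq_zero, map_sum]
    refine Eq.trans ?_ hy
    rw [chart_sum]
    refine Finset.sum_congr rfl fun i _ => ?_
    have e1 : ρ (φ (a' i)) = (π.app V.1).hom (res (a' i)) := res_app hVU _
    show ρ (φ (a' i) * z i) = _
    rw [map_mul, e1, ha', map_mul, mul_assoc, hρz]

end GrothLib.CycNorm12
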