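import Groth.Agent.Lib.CycNorm12.Local
import Groth.Agent.Lib.SymHilb26.Indep

/-!
# Ramification, smoothness and normal crossings of the normalised cyclic cover
-/

set_option autoImplicit false
set_option linter.all false
set_option backward.isDefEq.respectTransparency false

universe u

open CategoryTheory AlgebraicGeometry Opposite TopologicalSpace

noncomputable section

namespace GrothLib.CycNorm12

variable {k : Type u} [Field k] [IsAlgClosed k] {X Y : Scheme.{u}} {f : X ⟶ Spec (CommRingCat.of k)} [Smooth f]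
  [IsIntegral X] {L : X.Modules} {N : ℕ} {s : Coh.structureModule X ⟶ CohB1.tensorPow L N} {π : Y ⟶ X}
  {r : ℕ} {D : Fin r → X.IdealSheafData} {α : Fin r → ℕ}

theorem ramExp_pos {N : ℕ} (hN : 0 < N) (a : ℕ) : 0 < N / Nat.gcd N a :=
  Nat.div_pos (Nat.le_of_dvd hN (Nat.gcd_dvd_left N a)) (Nat.gcd_pos_of_pos_left _ hN)

theorem radical_span_pow {C : Type u} [CommRing C] [Algebra k C] {σ : Type u} {y : σ → C} (hy : IsCoord k y) (j : σ)
    {E : ℕ} (hE : 0 < E) : (Ideal.span {y j ^ E}).radical = Ideal.span {y j} := by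
  rw [← Ideal.span_singleton_pow, Ideal.radical_pow _ hE.ne', (hy.isRadical_span j).radical]

theorem radical_ideal_apply (I : Y.IdealSheafData) (V : Y.affineOpens) : I.radical.ideal V = (I.ideal V).radical := rfl

variable (hL : PicF.IsInvertible L) (hN : 0 < N) (hNk : (N : k) ≠ 0) (hD : LogNCD.IsNCD D f)
  (hs : CycCov.IsZeroDiv (CohB1.tensorPow L N) s (CycCov.divIdeal D α)) (R : CycCov.Root L N s π)
  (hR : CycCov.IsCover R) (W : X.Opens)
  (hW : ∀ x ∈ W, ∀ j j' : Fin r, 0 < α j → 0 < α j' → x ∈ (D j).support → x ∈ (D j').support → j = j')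

include hL hN hNk hD hs hR hW in
theorem comap_ideal_eq_radical_pow (j : Fin r) (V : Y.affineOpens) (hV : V.1 ≤ π ⁻¹ᵁ W) :
    ((D j).comap π).ideal V = (((D j).comap π).radical ^ (N / Nat.gcd N (α j))).ideal V := by
  haveI : IsFinite π := hR.1
  refine ideal_eq_of_local V fun y hy => ?_
  by_cases hxj : π y ∈ (D j).support
  · obtain ⟨U, hxU, -, n, c, e, -, hc, hI, -⟩ := exists_local f hL hN hNk D α hD hs R hR (π y) j hxj
      (fun i i' => hW _ (hV hy) i i') ⊤ trivial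
    refine ⟨⟨π ⁻¹ᵁ U.1, U.2.preimage π⟩, hxU, ?_⟩
    letI := (kc (π ≫ f) (π ⁻¹ᵁ U.1)).toAlgebra
    rw [FormalExist7.ideal_pow_apply, radical_ideal_apply, comap_ideal_preimage, hI ⟨j, hxj⟩,
      radical_span_pow hc _ (ramExp_pos hN _), Ideal.span_singleton_pow]
  · obtain ⟨U, hU, hxU, hle⟩ := exists_isAffineOpen_mem_and_subset
      (show π y ∈ (⟨((D j).support : Set X)ᶜ, (D j).support.isClosed.isOpen_compl⟩ : X.Opens) from hxj)
    refine ⟨⟨π ⁻¹ᵁ U, hU.preimage π⟩, hxU, ?_⟩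
    have h : ((D j).comap π).ideal ⟨π ⁻¹ᵁ U, hU.preimage π⟩ = ⊤ := by
      rw [comap_ideal_preimage π (D j) ⟨U, hU⟩, ideal_eq_top_of_disjoint _ ⟨U, hU⟩
        (Set.disjoint_left.2 fun a ha hb => hle ha hb), Ideal.map_top]
    rw [FormalExist7.ideal_pow_apply, radical_ideal_apply, h, Ideal.radical_top, ← Ideal.one_eq_top, one_pow]

include hL hN hNk hD hs hR hW in
theorem comap_divIdeal_eq (V : Y.affineOpens) (hV : V.1 ≤ π ⁻¹ᵁ W) :
    ((CycCov.divIdeal D α).comap π).ideal V =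
      (∏ j : Fin r, ((D j).comap π).radical ^ (N * α j / Nat.gcd N (α j))).ideal V := by
  rw [CycCov.divIdeal, SymHilb26.comap_prod, SymHilb26.ideal_prod, SymHilb26.ideal_prod]
  refine Finset.prod_congr rfl fun j _ => ?_
  rw [BlowUp.comap_pow, FormalExist7.ideal_pow_apply, FormalExist7.ideal_pow_apply,
    comap_ideal_eq_radical_pow hL hN hNk hD hs R hR W hW j V hV, FormalExist7.ideal_pow_apply, ← pow_mul]
  congr 1
  rw [mul_comm N, Nat.mul_div_assoc _ (Nat.gcd_dvd_left N (α j)), mul_comm]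

include hL hN hNk hD hs hR hW in
theorem smooth_preimage : Smooth ((π ⁻¹ᵁ W).ι ≫ π ≫ f) := by
  haveI : IsFinite π := hR.1
  have key : ∀ y : (π ⁻¹ᵁ W).toScheme, ∃ O : Y.Opens, y.1 ∈ O ∧ Smooth (O.ι ≫ π ≫ f) := by
    intro ⟨y, hy⟩
    by_cases h : ∃ j, 0 < α j ∧ π y ∈ (D j).support
    · obtain ⟨j, -, hxj⟩ := h
      obtain ⟨U, hxU, -, n, c, e, -, hc, -, -⟩ := exists_local f hL hN hNk D α hD hs R hR (π y) j hxj
        (fun i i' => hW _ hy i i') ⊤ trivial
      exact ⟨π ⁻¹ᵁ U.1, hxU, smooth_of_isCoord (π ≫ f) ⟨π ⁻¹ᵁ U.1, U.2.preimage π⟩ c hc⟩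
    · have hcl : IsClosed (⋃ j ∈ {j : Fin r | 0 < α j}, ((D j).support : Set X)) :=
        (Set.toFinite _).isClosed_biUnion fun j _ => (D j).support.isClosed
      let W' : X.Opens := ⟨_, hcl.isOpen_compl⟩
      have hyW' : π y ∈ W' := fun hm => by
        obtain ⟨j, hj, hj'⟩ := Set.mem_iUnion₂.1 hm
        exact h ⟨j, hj, hj'⟩
      haveI : Etale (π ∣_ W') := etale_of_disjoint k f hL R hR hN hNk _ hs W' fun U hU =>
        ideal_divIdeal_eq_top D α U fun j hj => Set.disjoint_left.2 fun a ha hb => hU ha (Set.mem_biUnion hj hb)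
      refine ⟨π ⁻¹ᵁ W', hyW', ?_⟩
      rw [← morphismRestrict_ι_assoc]
      infer_instance
  choose O hyO hO using key
  refine IsZariskiLocalAtSource.of_iSup_eq_top (P := @Smooth) (fun y => (π ⁻¹ᵁ W).ι ⁻¹ᵁ O y)
    (top_unique fun y _ => Opens.mem_iSup.2 ⟨y, hyO y⟩) fun y => ?_
  haveI := hO y
  let j := ((π ⁻¹ᵁ W).ι ⁻¹ᵁ O y).ι ≫ (π ⁻¹ᵁ W).ι
  have hr : Set.range j ⊆ Set.range (O y).ι := by
    rintro _ ⟨a, rfl⟩
    rw [Scheme.Opens.range_ι]
    exact a.2
  rw [← Category.assoc, show ((π ⁻¹ᵁ W).ι ⁻¹ᵁ O y).ι ≫ (π ⁻¹ᵁ W).ι = IsOpenImmersion.lift (O y).ι j hr ≫ (O y).ι from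
    (IsOpenImmersion.lift_fac (O y).ι j hr).symm, Category.assoc]
  haveI : IsOpenImmersion (IsOpenImmersion.lift (O y).ι j hr ≫ (O y).ι) := by
    rw [IsOpenImmersion.lift_fac]; infer_instance
  haveI : IsOpenImmersion (IsOpenImmersion.lift (O y).ι j hr) := IsOpenImmersion.of_comp _ (O y).ι
  infer_instance

include hL hN hNk hD hs hR in
theorem isNCD_radical_comap
    (hdisj : ∀ (x : X) (j j' : Fin r), 0 < α j → 0 < α j' → x ∈ (D j).support → x ∈ (D j').support → j = j') :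
    LogNCD.IsNCD (fun j : Fin r => ((D j).comap π).radical) (π ≫ f) := by
  haveI : IsFinite π := hR.1
  intro y ⟨⟨j, hj⟩⟩
  have hsupp : ∀ i, y ∈ ((D i).comap π).radical.support ↔ π y ∈ (D i).support := fun i => by
    rw [Scheme.IdealSheafData.support_radical, Scheme.IdealSheafData.support_comap]
    rfl
  obtain ⟨U, hxU, -, n, c, e, hinj, hc, hI, hout⟩ := exists_local f hL hN hNk D α hD hs R hR (π y) j ((hsupp j).1 hj)
    (fun i i' => hdisj (π y) i i') ⊤ trivial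
  let V : Y.affineOpens := ⟨π ⁻¹ᵁ U.1, U.2.preimage π⟩
  letI := (kc (π ≫ f) (π ⁻¹ᵁ U.1)).toAlgebra
  refine ⟨V.1, hxU, n, fun i => V.1.topIso.inv (c i), fun i => e ⟨i.1, (hsupp i.1).1 i.2⟩,
    fun a b hab => Subtype.ext (congrArg Subtype.val (hinj hab) : _), etale_of_isCoord (π ≫ f) V c hc, fun i U' h => ?_,
    fun i hi U' h => ?_⟩
  · rw [← Scheme.IdealSheafData.map_ideal _ (U := U') (V := V) h, radical_ideal_apply, comap_ideal_preimage,
      hI ⟨i.1, (hsupp i.1).1 i.2⟩, radical_span_pow hc _ (ramExp_pos hN _), Ideal.map_span, Set.image_singleton,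
      LogNCD.sectOn_apply, ← CommRingCat.comp_apply V.1.topIso.inv, Iso.inv_hom_id]
    rfl
  · rw [← Scheme.IdealSheafData.map_ideal _ (U := U') (V := V) h, radical_ideal_apply, comap_ideal_preimage,
      hout i (fun hm => hi ((hsupp i).2 hm)), Ideal.map_top, Ideal.radical_top, Ideal.map_top]

end GrothLib.CycNorm12
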