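import Groth.Agent.Lib.CycNorm12.Etale
import Groth.Agent.Lib.InvExt.Transfer
import Groth.Agent.Lib.FinCov.FrameFree

/-!
# Irreducibility of the normalised cyclic cover
-/

set_option autoImplicit false
set_option linter.all false
set_option backward.isDefEq.respectTransparency false

universe u

open CategoryTheory AlgebraicGeometry Opposite TopologicalSpace
open Polynomial (C eval₂_sub eval₂_X_pow eval₂_C natDegree)
open GrothLib.InvExt (mres fres)

noncomputable section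

namespace GrothLib.CycNorm12

/-- Over a field with the roots of unity, a reducible `T^N - a` has `a` a proper power. -/
theorem exists_root_of_reducible {K : Type u} [Field K] {N : ℕ} (hN : 0 < N) {ζ : K} (hζ : IsPrimitiveRoot ζ N) (a : K)
    (h : ¬ Irreducible (Polynomial.X ^ N - C a)) : ∃ μ, 1 < μ ∧ μ ∣ N ∧ ∃ b : K, a = b ^ μ := by
  classical
  have hmon : (Polynomial.X ^ N - C a).Monic := Polynomial.monic_X_pow_sub_C a hN.ne'
  have hdeg : (Polynomial.X ^ N - C a).natDegree = N := Polynomial.natDegree_X_pow_sub_C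
  have hne1 : Polynomial.X ^ N - C a ≠ 1 := fun h1 => by rw [h1, Polynomial.natDegree_one] at hdeg; omega
  rw [hmon.irreducible_iff_natDegree' ] at h
  push_neg at h
  obtain ⟨p, q, hp, hq, hpq, hm⟩ := h hne1
  rw [Finset.mem_Ioc, hdeg] at hm
  set m := q.natDegree
  have hN1 : 1 < N := by omega
  by_cases ha : a = 0
  · exact ⟨N, hN1, dvd_rfl, 0, by rw [ha, zero_pow hN.ne']⟩
  let Ω := AlgebraicClosure K
  let q' := q.map (algebraMap K Ω)
  have hs : Polynomial.Splits q' := IsAlgClosed.splits _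
  have hroots : ∀ z ∈ q'.roots, z ^ N = algebraMap K Ω a := fun z hz => by
    have hz' : (Polynomial.X ^ N - C (algebraMap K Ω a)).IsRoot z := by
      have hd : q' ∣ Polynomial.X ^ N - C (algebraMap K Ω a) := by
        refine ⟨p.map (algebraMap K Ω), ?_⟩
        rw [mul_comm q', ← Polynomial.map_mul, hpq]
        simp
      exact Polynomial.IsRoot.dvd (Polynomial.isRoot_of_mem_roots hz) hd
    simpa [sub_eq_zero] using hz'
  have hcard : Multiset.card q'.roots = m := by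
    rw [← hs.natDegree_eq_card_roots]
    exact Polynomial.natDegree_map _
  have hprod : q'.roots.prod ^ N = (q'.roots.map (fun z => z ^ N)).prod := by
    rw [Multiset.prod_map_pow, Multiset.map_id']
  set c := (-1 : K) ^ m * q.coeff 0
  have hc : c ^ N = a ^ m := by
    apply (algebraMap K Ω).injective
    have h0 : algebraMap K Ω (q.coeff 0) = (-1) ^ m * q'.roots.prod := by
      have := hs.coeff_zero_eq_prod_roots_of_monic (hq.map _)
      rw [Polynomial.coeff_map, Polynomial.natDegree_map] at this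
      exact this
    rw [map_pow, map_pow, map_mul, h0, map_pow, map_neg, map_one, ← mul_assoc, ← mul_pow, neg_mul_neg, one_mul,
      one_pow, one_mul, hprod, Multiset.map_congr rfl hroots, Multiset.map_const',
      Multiset.prod_replicate, hcard]
  set g := Nat.gcd m N
  have hg0 : 0 < g := Nat.gcd_pos_of_pos_right _ hN
  set μ := N / g
  set m' := m / g
  have hgN : g * μ = N := Nat.mul_div_cancel' (Nat.gcd_dvd_right m N)
  have hgm : g * m' = m := Nat.mul_div_cancel' (Nat.gcd_dvd_left m N)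
  have hgle : g ≤ m := Nat.le_of_dvd hm.1 (Nat.gcd_dvd_left m N)
  have hμ : 1 < μ := by
    by_contra hμ
    have : g * μ ≤ g * 1 := Nat.mul_le_mul_left g (by omega)
    omega
  refine ⟨μ, hμ, ⟨g, by rw [mul_comm]; exact hgN.symm⟩, ?_⟩
  have hc0 : c ≠ 0 := fun hc0 => by
    rw [hc0, zero_pow hN.ne'] at hc
    exact ha (eq_zero_of_pow_eq_zero hc.symm)
  have h1 : (a ^ m' / c ^ μ) ^ g = 1 := by
    rw [div_pow, ← pow_mul, ← pow_mul, mul_comm m', mul_comm μ, hgm, hgN, hc, div_self (pow_ne_zero _ ha)]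
  have hζμ : IsPrimitiveRoot (ζ ^ μ) g := hζ.pow hN (by rw [mul_comm, hgN])
  haveI : NeZero g := ⟨hg0.ne'⟩
  obtain ⟨i, -, hi⟩ := hζμ.eq_pow_of_pow_eq_one h1
  set c' := ζ ^ i * c
  have h2 : a ^ m' = c' ^ μ := by
    rw [mul_pow, ← pow_mul, mul_comm i, pow_mul, hi, div_mul_cancel₀ _ (pow_ne_zero _ hc0)]
  have hcop : Nat.Coprime m' μ := Nat.coprime_div_gcd_div_gcd hg0
  obtain ⟨s, -, hs'⟩ := Nat.exists_mul_mod_eq_one_of_coprime hcop hμ
  set t := m' * s / μ
  have hst : μ * t + 1 = m' * s := by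
    have := Nat.div_add_mod (m' * s) μ
    rwa [hs'] at this
  refine ⟨c' ^ s / a ^ t, ?_⟩
  rw [div_pow, ← pow_mul, ← pow_mul, mul_comm s μ, pow_mul c' μ s, ← h2, ← pow_mul, ← hst, pow_succ, mul_comm μ t,
    mul_div_cancel_left₀ _ (pow_ne_zero _ ha)]

theorem isDomain_adjoinRoot_of_irreducible {B K : Type u} [CommRing B] [Nontrivial B] [Field K] (γ : B →+* K)
    (hγ : Function.Injective γ) {N : ℕ} (hN : 0 < N) (f : B)
    (h : Irreducible (Polynomial.X ^ N - C (γ f))) : IsDomain (AdjoinRoot (Polynomial.X ^ N - C f)) := by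
  haveI := Fact.mk h
  let Φ : AdjoinRoot (Polynomial.X ^ N - C f) →+* KRoot K N (γ f) :=
    AdjoinRoot.lift ((AdjoinRoot.of _).comp γ) (AdjoinRoot.root _) (by
      rw [eval₂_sub, eval₂_X_pow, eval₂_C, root_pow_eq, RingHom.comp_apply, sub_self])
  refine Function.Injective.isDomain Φ ((injective_iff_map_eq_zero Φ).2 fun x hx => ?_)
  obtain ⟨c, rfl⟩ := exists_coord N hN f x
  have : ∀ i, γ (c i) = 0 := fun i => coord_eq_zero N hN (γ f) (fun i => γ (c i)) (by simpa [Φ, map_sum] using hx) i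
  have hc : ∀ i, c i = 0 := fun i => hγ ((this i).trans (map_zero γ).symm)
  simp [hc]

theorem not_isDomain_adjoinRoot_of_pow {B : Type u} [CommRing B] [Nontrivial B] {N μ : ℕ} (hN : 0 < N) (hμ : 1 < μ)
    (hμN : μ ∣ N) (b : B) : ¬ IsDomain (AdjoinRoot (Polynomial.X ^ N - C (b ^ μ))) := by
  intro h
  obtain ⟨M, rfl⟩ := hμN
  have hM : 0 < M := Nat.pos_of_ne_zero fun h => by simp [h] at hN
  set p := Polynomial.X ^ (μ * M) - C (b ^ μ)
  have hp : p.Monic := Polynomial.monic_X_pow_sub_C _ hN.ne'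
  set p₁ := Polynomial.X ^ M - C b
  set p₂ := ∑ i ∈ Finset.range μ, (Polynomial.X ^ M) ^ i * C b ^ (μ - 1 - i)
  have hfac : p₂ * p₁ = p := by
    rw [geom_sum₂_mul, ← pow_mul, mul_comm M, ← map_pow]
  have hp₁ : p₁.Monic := Polynomial.monic_X_pow_sub_C _ hM.ne'
  have hd₁ : p₁.natDegree = M := Polynomial.natDegree_X_pow_sub_C
  have hp₂ : p₂.Monic := Polynomial.Monic.of_mul_monic_right hp₁ (by rw [hfac]; exact hp)
  have hd : p.natDegree = μ * M := Polynomial.natDegree_X_pow_sub_C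
  have hd₂ : p₂.natDegree + M = μ * M := by rw [← hd, ← hfac, hp₂.natDegree_mul hp₁, hd₁]
  have hlt : M < μ * M := lt_mul_of_one_lt_left hM hμ
  have h1 : AdjoinRoot.mk p p₁ ≠ 0 := fun h0 =>
    hp.not_dvd_of_natDegree_lt hp₁.ne_zero (by omega) (AdjoinRoot.mk_eq_zero.1 h0)
  have h2 : AdjoinRoot.mk p p₂ ≠ 0 := fun h0 =>
    hp.not_dvd_of_natDegree_lt hp₂.ne_zero (by omega) (AdjoinRoot.mk_eq_zero.1 h0)
  exact mul_ne_zero h2 h1 (by rw [← map_mul, hfac, AdjoinRoot.mk_self])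

variable {X Y : Scheme.{u}}

theorem mres_injective [IsIntegral X] {M : X.Modules}
    (hM : ∀ x : X, ∃ (V : X.Opens) (e : Γ(M, V)), x ∈ V ∧ InvExt.IsGen M V e) {U W : X.Opens} (h : W ≤ U)
    (hW : (W : Set X).Nonempty) : Function.Injective (mres M h) := by
  intro a b hab
  choose V e hxV he using hM
  refine TopCat.Sheaf.eq_of_locally_eq' ⟨M.presheaf, M.isSheaf⟩ (fun x : U => U ⊓ V x) U
    (fun x => homOfLE inf_le_left) (fun x hx => Opens.mem_iSup.2 ⟨⟨x, hx⟩, hx, hxV x⟩) a b fun x => ?_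
  show mres M inf_le_left a = mres M inf_le_left b
  obtain ⟨ca, hca⟩ := (he x).exists_smul_eq (W := U ⊓ V x) inf_le_right (mres M inf_le_left a)
  obtain ⟨cb, hcb⟩ := (he x).exists_smul_eq (W := U ⊓ V x) inf_le_right (mres M inf_le_left b)
  rw [hca, hcb]
  congr 1
  let T : X.Opens := W ⊓ V x
  haveI : Nonempty T := by
    obtain ⟨z, hz⟩ := nonempty_preirreducible_inter W.2 (V x).2 hW ⟨x, hxV x⟩
    exact ⟨⟨z, hz⟩⟩
  have hT : T ≤ U ⊓ V x := inf_le_inf_right _ h
  refine res_injective hT ((he x).smul_left_injective (W := T) inf_le_right ?_)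
  have key : ∀ (c : Γ(X, U ⊓ V x)) (m : Γ(M, U)), mres M inf_le_left m = c • mres M inf_le_right (e x) →
      mres M (inf_le_left : T ≤ W) (mres M h m) = fres X hT c • mres M inf_le_right (e x) := fun c m hc => by
    rw [InvExt.mres_mres, ← InvExt.mres_mres M inf_le_left hT, hc, InvExt.mres_smul, InvExt.mres_mres]
  exact (key ca a hca).symm.trans ((congrArg _ hab).trans (key cb b hcb))

variable {L : X.Modules} {N : ℕ} {s : Coh.structureModule X ⟶ CohB1.tensorPow L N} {π : Y ⟶ X}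
  (R : CycCov.Root L N s π) [IsIntegral X]

theorem dense_preimage (hL : PicF.IsInvertible L) (hR : CycCov.IsCover R) (hN : 0 < N) (V : X.affineOpens)
    [Nonempty V.1] : Dense (π ⁻¹ᵁ V.1 : Set Y) := by
  haveI := isReduced_of_normal hR.2.1
  haveI := hR.1
  rw [dense_iff_inter_open]
  intro O hO ⟨y, hy⟩
  obtain ⟨W₁, ε, hyW, hε⟩ := InvExt.exists_gen_nhd hL (π y)
  obtain ⟨U, hU, hyU, hUle⟩ := exists_isAffineOpen_mem_and_subset hyW
  haveI : Nonempty U := ⟨⟨_, hyU⟩⟩
  obtain ⟨h, hh, hyh⟩ := (hU.preimage π).exists_basicOpen_le (V := ⟨O, hO⟩) ⟨y, hy⟩ hyU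
  obtain ⟨V₁, hV₁, hne⟩ := exists_affine_le (O := U ⊓ V.1) (nonempty_preirreducible_inter U.2 V.1.2
    ⟨_, hyU⟩ ⟨_, (Classical.arbitrary V.1).2⟩)
  have hV₁U : V₁.1 ≤ U := fun a ha => (hV₁ ha).1
  haveI := hne
  by_contra hc
  have h0 : Y.presheaf.map (homOfLE (π.preimage_mono hV₁U)).op h = 0 := by
    rw [← basicOpen_eq_bot_iff, Scheme.basicOpen_res, eq_bot_iff]
    exact fun z hz => hc ⟨z, hh hz.2, (hV₁ hz.1).2⟩
  have h00 : h = 0 := eq_zero_of_res R hR hN ⟨U, hU⟩ V₁ hV₁U _ (hε.restrict hUle) h h0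
  rw [h00, Scheme.basicOpen_zero] at hyh
  exact hyh

theorem irreducibleSpace_of_isDomain (hL : PicF.IsInvertible L) (hR : CycCov.IsCover R) (hN : 0 < N) (V : X.affineOpens)
    [Nonempty V.1] (h : IsDomain Γ(Y, π ⁻¹ᵁ V.1)) : IrreducibleSpace Y := by
  haveI := hR.1
  have hA := V.2.preimage π
  haveI : IrreducibleSpace (Spec Γ(Y, π ⁻¹ᵁ V.1)) := PrimeSpectrum.irreducibleSpace
  have h1 : IsIrreducible (Set.range hA.fromSpec) := by
    rw [← Set.image_univ]
    exact (irreducibleSpace_def _ |>.1 inferInstance).image _ hA.fromSpec.continuous.continuousOn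
  rw [hA.range_fromSpec] at h1
  have h2 := h1.closure
  rw [(dense_preimage R hL hR hN V).closure_eq] at h2
  exact (irreducibleSpace_def _).2 h2

theorem isGen_gens_pw (hL : PicF.IsInvertible L) (M : ℕ) (x : X) :
    ∃ (V : X.Opens) (e : Γ(CohB1.tensorPow L M, V)), x ∈ V ∧ InvExt.IsGen (CohB1.tensorPow L M) V e := by
  obtain ⟨V, e, hx, he⟩ := InvExt.exists_gen_nhd hL x
  exact ⟨V, _, hx, TensorGen.isGen_pw L he M⟩

/-- An `N`-th tensor power section whose coefficient in one frame is a `μ`-th power is a `μ`-th power. -/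
theorem exists_root_section (hX : Pi1.IsNormalScheme X) (hL : PicF.IsInvertible L) {μ : ℕ} (hμ : 0 < μ) (hμN : μ ∣ N)
    (U₀ : X.affineOpens) [Nonempty U₀.1] (ε₀ : Γ(L, U₀.1)) (hε₀ : InvExt.IsGen L U₀.1 ε₀) (b₀ : Γ(X, U₀.1))
    (hb₀ : SecTwist.val s U₀.1 = b₀ ^ μ • CycCov.lpow L U₀.1 ε₀ N) :
    ∃ s' : Coh.structureModule X ⟶ CohB1.tensorPow L (N / μ),
      ∀ (U : X.affineOpens) (e : L.val.obj (op U.1)), CycCov.IsGen L U.1 e →
        ∀ a b : Γ(X, U.1), SecTwist.val s U.1 = a • CycCov.lpow L U.1 e N →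
          SecTwist.val s' U.1 = b • CycCov.lpow L U.1 e (N / μ) → a = b ^ μ := by
  classical
  set M := N / μ
  have hMμ : M * μ = N := Nat.div_mul_cancel hμN
  set P := CohB1.tensorPow L M
  let p₀ : Γ(P, U₀.1) := b₀ • TensorGen.pw L ε₀ M
  -- on every frame the section extends
  have key : ∀ x : X, ∃ (U : X.affineOpens) (σ : Γ(P, U.1)), x ∈ U.1 ∧
      mres P (inf_le_left : U.1 ⊓ U₀.1 ≤ U.1) σ = mres P inf_le_right p₀ := by
    intro x
    obtain ⟨W₁, ε₁, hxW, hε₁⟩ := InvExt.exists_gen_nhd hL x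
    obtain ⟨U, hU, hxU, hUle⟩ := exists_isAffineOpen_mem_and_subset hxW
    set ε := mres L hUle ε₁
    have hε : InvExt.IsGen L U ε := hε₁.restrict hUle
    haveI : Nonempty U := ⟨⟨x, hxU⟩⟩
    obtain ⟨V, hV, hne⟩ := exists_affine_le (O := U ⊓ U₀.1) (nonempty_preirreducible_inter U.2 U₀.1.2
      ⟨_, hxU⟩ ⟨_, (Classical.arbitrary U₀.1).2⟩)
    have hVU : V.1 ≤ U := fun a ha => (hV ha).1
    have hVU₀ : V.1 ≤ U₀.1 := fun a ha => (hV ha).2
    haveI := hne
    obtain ⟨c, hc⟩ := hε₀.exists_smul_eq hVU₀ (mres L hVU ε)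
    have hc0 : c ≠ 0 := fun h0 => one_ne_zero (α := Γ(X, V.1)) (hε.smul_left_injective hVU (by
      rw [hc, h0, zero_smul, smul_zero, smul_zero]))
    obtain ⟨f, hf⟩ := exists_coef (s := s) hε
    have hfV := val_res hVU ε f hf
    have hf₀V := val_res hVU₀ ε₀ _ hb₀
    rw [hc, lpow_eq_pw, TensorGen.pw_smul, smul_smul] at hfV
    rw [lpow_eq_pw] at hf₀V
    have hrel : X.presheaf.map (homOfLE hVU).op f * c ^ N = X.presheaf.map (homOfLE hVU₀).op (b₀ ^ μ) :=
      (TensorGen.isGen_pw L (hε₀.restrict hVU₀) N).smul_left_injective le_rfl (by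
        rw [InvExt.mres_self]; exact hfV.symm.trans hf₀V)
    haveI := isIntegrallyClosed_sections hX hU
    haveI := functionField_isFractionRing_of_isAffineOpen X U hU
    let γ : Γ(X, V.1) →+* X.functionField := (X.germToFunctionField V.1).hom
    have hγ : ∀ a, γ (X.presheaf.map (homOfLE hVU).op a) = algebraMap Γ(X, U) X.functionField a := fun a =>
      TopCat.Presheaf.germ_res_apply X.presheaf (homOfLE hVU) _ _ a
    have hγc : γ c ≠ 0 := fun h0 => hc0 (germ_injective_of_isIntegral X _ _ (h0.trans (map_zero γ).symm))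
    set β := γ (X.presheaf.map (homOfLE hVU₀).op b₀) / γ c ^ M
    have hβ : β ^ μ = algebraMap Γ(X, U) X.functionField f := by
      rw [div_pow, ← pow_mul, hMμ, ← map_pow, ← map_pow (X.presheaf.map (homOfLE hVU₀).op).hom, ← hrel, map_mul, hγ,
        map_pow, mul_div_cancel_right₀ _ (pow_ne_zero _ hγc)]
    obtain ⟨b, hb⟩ := IsIntegrallyClosed.algebraMap_eq_of_integral
      (IsIntegral.of_pow hμ (hβ ▸ isIntegral_algebraMap) : IsIntegral Γ(X, U) β)
    have hbV : X.presheaf.map (homOfLE hVU).op b * c ^ M = X.presheaf.map (homOfLE hVU₀).op b₀ :=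
      germ_injective_of_isIntegral X _ _ (by
        show γ _ = γ _
        rw [map_mul, hγ, hb, map_pow, div_mul_cancel₀ _ (pow_ne_zero _ hγc)])
    refine ⟨⟨U, hU⟩, b • TensorGen.pw L ε M, hxU, ?_⟩
    refine mres_injective (isGen_gens_pw hL M) (U := U ⊓ U₀.1) (W := V.1) (fun a ha => hV ha)
      ⟨_, (Classical.arbitrary V.1).2⟩ ?_
    rw [InvExt.mres_mres, InvExt.mres_mres, InvExt.mres_smul, InvExt.mres_smul, TensorGen.mres_pw,
      TensorGen.mres_pw, hc, TensorGen.pw_smul, smul_smul]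
    exact congrArg (· • TensorGen.pw L (mres L hVU₀ ε₀) M) hbV
  choose U σ hxU hσ using key
  have hcomp : ∀ x y, mres P (inf_le_left : (U x).1 ⊓ (U y).1 ≤ (U x).1) (σ x) =
      mres P (inf_le_right : (U x).1 ⊓ (U y).1 ≤ (U y).1) (σ y) := by
    intro x y
    by_cases hne : (((U x).1 ⊓ (U y).1 : X.Opens) : Set X).Nonempty
    · refine mres_injective (isGen_gens_pw hL M) (W := (U x).1 ⊓ (U y).1 ⊓ U₀.1) inf_le_left
        (nonempty_preirreducible_inter ((U x).1 ⊓ (U y).1).2 U₀.1.2 hne ⟨_, (Classical.arbitrary U₀.1).2⟩) ?_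
      have hx' : (U x).1 ⊓ (U y).1 ⊓ U₀.1 ≤ (U x).1 ⊓ U₀.1 := inf_le_inf_right _ inf_le_left
      have hy' : (U x).1 ⊓ (U y).1 ⊓ U₀.1 ≤ (U y).1 ⊓ U₀.1 := inf_le_inf_right _ inf_le_right
      rw [InvExt.mres_mres, InvExt.mres_mres, ← InvExt.mres_mres P inf_le_left hx', hσ x,
        ← InvExt.mres_mres P inf_le_left hy', hσ y, InvExt.mres_mres, InvExt.mres_mres]
    · haveI := InvExt.subsingleton_sections_of_eq_bot P (W := (U x).1 ⊓ (U y).1)
        (Opens.ext (Set.not_nonempty_iff_eq_empty.1 hne))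
      exact Subsingleton.elim _ _
  obtain ⟨σ', hσ', -⟩ := TopCat.Sheaf.existsUnique_gluing' ⟨P.presheaf, P.isSheaf⟩ (fun x => (U x).1) ⊤
    (fun x => homOfLE le_top) (fun z _ => Opens.mem_iSup.2 ⟨z, hxU z⟩) σ hcomp
  refine ⟨FinCov.homOfSection σ', fun W e he a b ha hb => ?_⟩
  have hval : ∀ T : X.Opens, SecTwist.val (FinCov.homOfSection σ') T = mres P (le_top : T ≤ ⊤) σ' := fun T =>
    FinCov.homOfSection_one σ' T
  rcases isEmpty_or_nonempty W.1 with hW | hW
  · have hbot : W.1 = ⊥ := Opens.ext (Set.eq_empty_of_forall_notMem fun z hz => hW.elim ⟨z, hz⟩)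
    haveI : Subsingleton Γ(X, W.1) := InvExt.subsingleton_sections_of_eq_bot (Coh.structureModule X) hbot
    exact Subsingleton.elim _ _
  · obtain ⟨x, hx⟩ := hW
    obtain ⟨V, hV, hne⟩ := exists_affine_le (O := W.1 ⊓ U₀.1 ⊓ (U x).1) (nonempty_preirreducible_inter
      (W.1 ⊓ U₀.1).2 (U x).1.2 (nonempty_preirreducible_inter W.1.2 U₀.1.2 ⟨x, hx⟩ ⟨_, (Classical.arbitrary U₀.1).2⟩)
      ⟨x, hxU x⟩)
    have hVW : V.1 ≤ W.1 := fun a ha => (hV ha).1.1
    have hVU₀ : V.1 ≤ U₀.1 := fun a ha => (hV ha).1.2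
    have hVx : V.1 ≤ (U x).1 := fun a ha => (hV ha).2
    haveI := hne
    haveI : Nonempty W.1 := ⟨⟨x, hx⟩⟩
    obtain ⟨c, hc⟩ := hε₀.exists_smul_eq hVU₀ (mres L hVW e)
    have hc0 : c ≠ 0 := fun h0 => by
      rw [h0, zero_smul] at hc
      have he0 : e = 0 := mres_injective (InvExt.exists_gen_nhd hL) hVW ⟨_, (Classical.arbitrary V.1).2⟩
        (hc.trans (map_zero _).symm)
      exact one_ne_zero (α := Γ(X, W.1)) (he.1 (show (1 : Γ(X, W.1)) • e = (0 : Γ(X, W.1)) • e by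
        rw [he0, smul_zero, smul_zero]))
    have haV := val_res hVW e a ha
    rw [hc, lpow_eq_pw, TensorGen.pw_smul, smul_smul] at haV
    have hf₀V := val_res hVU₀ ε₀ _ hb₀
    rw [lpow_eq_pw] at hf₀V
    have h1 : X.presheaf.map (homOfLE hVW).op a * c ^ N = X.presheaf.map (homOfLE hVU₀).op (b₀ ^ μ) :=
      (TensorGen.isGen_pw L (hε₀.restrict hVU₀) N).smul_left_injective le_rfl (by
        rw [InvExt.mres_self]; exact haV.symm.trans hf₀V)
    have h2 : X.presheaf.map (homOfLE hVW).op b * c ^ M = X.presheaf.map (homOfLE hVU₀).op b₀ := by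
      refine (TensorGen.isGen_pw L (hε₀.restrict hVU₀) M).smul_left_injective le_rfl ?_
      have hbW : SecTwist.val (FinCov.homOfSection σ') W.1 = b • TensorGen.pw L e M := by rw [hb, lpow_eq_pw]
      have e1 : mres P hVW (b • TensorGen.pw L e M) = mres P (le_top : V.1 ≤ ⊤) σ' := by
        rw [← hbW, hval, InvExt.mres_mres]
      have e2 : mres P (le_top : V.1 ≤ ⊤) σ' = mres P hVU₀ p₀ := by
        have hx' : V.1 ≤ (U x).1 ⊓ U₀.1 := le_inf hVx hVU₀
        rw [← InvExt.mres_mres P (le_top : (U x).1 ≤ ⊤) hVx, show mres P (le_top : (U x).1 ≤ ⊤) σ' = σ x from hσ' x,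
          ← InvExt.mres_mres P inf_le_left hx', hσ x, InvExt.mres_mres]
      have e3 := e1.trans e2
      rw [InvExt.mres_smul, InvExt.mres_smul, TensorGen.mres_pw, TensorGen.mres_pw, hc, TensorGen.pw_smul,
        smul_smul] at e3
      rw [InvExt.mres_self]
      exact e3
    refine res_injective hVW (mul_right_cancel₀ (pow_ne_zero N hc0) ?_)
    rw [h1, map_pow, map_pow, ← h2, mul_pow, ← pow_mul, hMμ]

theorem not_irreducibleSpace_iff (k : Type u) [Field k] [IsAlgClosed k] (p : X ⟶ Spec (CommRingCat.of k)) [Smooth p]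
    (hL : PicF.IsInvertible L) (hN : 0 < N) (hNk : (N : k) ≠ 0) (hR : CycCov.IsCover R) :
    ¬ IrreducibleSpace Y ↔
      ∃ μ : ℕ, 1 < μ ∧ μ ∣ N ∧ ∃ s' : Coh.structureModule X ⟶ CohB1.tensorPow L (N / μ),
        ∀ (U : X.affineOpens) (e : L.val.obj (op U.1)), CycCov.IsGen L U.1 e →
          ∀ a b : Γ(X, U.1), SecTwist.val s U.1 = a • CycCov.lpow L U.1 e N →
            SecTwist.val s' U.1 = b • CycCov.lpow L U.1 e (N / μ) → a = b ^ μ := by
  classical
  letI : X.Over (Spec (CommRingCat.of k)) := ⟨p⟩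
  haveI : Smooth (X ↘ Spec (CommRingCat.of k)) := ‹Smooth p›
  have hX : Pi1.IsNormalScheme X := Hilb20.isNormalScheme_of_smooth (k := k)
  haveI : NeZero (N : k) := ⟨hNk⟩
  haveI : NeZero N := ⟨hN.ne'⟩
  obtain ⟨ζ₀, hζ₀⟩ := HasEnoughRootsOfUnity.exists_primitiveRoot k N
  have hR' := hR
  obtain ⟨hfin, hY, W, hWd, -, hchart⟩ := hR'
  haveI := hfin
  haveI := isReduced_of_normal hY
  obtain ⟨x, hxW⟩ := hWd.nonempty
  obtain ⟨W₁, ε₁, hxW₁, hε₁⟩ := InvExt.exists_gen_nhd hL x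
  obtain ⟨U₀, hU₀, hxU₀, hle⟩ := exists_isAffineOpen_mem_and_subset (show x ∈ W₁ ⊓ W from ⟨hxW₁, hxW⟩)
  let V : X.affineOpens := ⟨U₀, hU₀⟩
  haveI : Nonempty V.1 := ⟨⟨x, hxU₀⟩⟩
  have hε : InvExt.IsGen L V.1 (mres L (fun a ha => (hle ha).1) ε₁) := hε₁.restrict _
  obtain ⟨f, hf⟩ := exists_coef (s := s) hε
  have hb := hchart V (fun a ha => (hle ha).2) _ (cycGen hε) f hf
  haveI := functionField_isFractionRing_of_isAffineOpen X V.1 V.2
  haveI := isIntegrallyClosed_sections hX V.2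
  constructor
  · intro hirr
    by_contra hno
    refine hirr (irreducibleSpace_of_isDomain R hL hR hN V ?_)
    have hir : Irreducible (Polynomial.X ^ N - C (algebraMap Γ(X, V.1) X.functionField f)) := by
      by_contra hred
      let κ : k →+* Γ(X, V.1) := ((Scheme.ΓSpecIso (CommRingCat.of k)).inv ≫ p.appLE ⊤ V.1 le_top).hom
      obtain ⟨μ, hμ, hμN, β, hβ⟩ := exists_root_of_reducible hN
        (hζ₀.map_of_injective (f := (algebraMap Γ(X, V.1) X.functionField).comp κ) (RingHom.injective _)) _ hred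
      obtain ⟨b, rfl⟩ := IsIntegrallyClosed.algebraMap_eq_of_integral
        (IsIntegral.of_pow (lt_trans Nat.zero_lt_one hμ) (hβ ▸ isIntegral_algebraMap) : IsIntegral Γ(X, V.1) β)
      rw [← map_pow] at hβ
      have hfb := IsFractionRing.injective Γ(X, V.1) X.functionField hβ
      exact hno ⟨μ, hμ, hμN, exists_root_section hX hL (lt_trans Nat.zero_lt_one hμ) hμN V _ hε b (hfb ▸ hf)⟩
    haveI := isDomain_adjoinRoot_of_irreducible _ (IsFractionRing.injective Γ(X, V.1) X.functionField) hN f hir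
    exact MulEquiv.isDomain _ (RingEquiv.ofBijective _ hb).symm.toMulEquiv
  · rintro ⟨μ, hμ, hμN, s', hs'⟩ hirr
    obtain ⟨b, hb'⟩ := exists_coef (s := s') hε
    obtain rfl := hs' V _ (cycGen hε) f b hf hb'
    refine not_isDomain_adjoinRoot_of_pow hN hμ hμN b ?_
    haveI := hirr
    haveI : IsIntegral Y := isIntegral_of_irreducibleSpace_of_isReduced Y
    haveI : Nontrivial (AdjoinRoot (Polynomial.X ^ N - C (b ^ μ))) := AdjoinRoot.nontrivial _ (by
      rw [Polynomial.degree_X_pow_sub_C hN]; exact_mod_cast hN.ne')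
    haveI : Nontrivial Γ(Y, π ⁻¹ᵁ V.1) := (RingEquiv.ofBijective _ hb).injective.nontrivial
    haveI : Nonempty (π ⁻¹ᵁ V.1) := by
      by_contra hem
      rw [not_nonempty_iff] at hem
      haveI : Subsingleton Γ(Y, π ⁻¹ᵁ V.1) := InvExt.subsingleton_sections_of_eq_bot (Coh.structureModule Y) (W := π ⁻¹ᵁ V.1)
        (Opens.ext (Set.eq_empty_of_forall_notMem fun z hz => hem.elim ⟨z, hz⟩))
      exact false_of_nontrivial_of_subsingleton Γ(Y, π ⁻¹ᵁ V.1)
    exact MulEquiv.isDomain _ (RingEquiv.ofBijective _ hb).toMulEquiv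

end GrothLib.CycNorm12
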