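import Groth.Agent.Lib.CycNorm12.Algebra
import Groth.Agent.Lib.TensorGen.Basic
import Groth.Agent.Lib.RootCover26.Ring
import Groth.Prelude.Def_CycCov
import Mathlib.AlgebraicGeometry.FunctionField

/-!
# The normalised cyclic cover over a frame
-/

set_option autoImplicit false
set_option linter.all false
set_option backward.isDefEq.respectTransparency false

universe u

open CategoryTheory CategoryTheory.Limits AlgebraicGeometry Opposite TopologicalSpace
open Polynomial (C eval₂_sub eval₂_X_pow eval₂_C)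
open GrothLib.InvExt (mres fres)

noncomputable section

namespace GrothLib.CycNorm12

variable {X Y : Scheme.{u}}

theorem isIntegrallyClosed_sections [IsIntegral X] (hX : Pi1.IsNormalScheme X) {U : X.Opens}
    (hU : IsAffineOpen U) [Nonempty U] : IsIntegrallyClosed Γ(X, U) := by
  refine IsIntegrallyClosed.of_localization_maximal fun p _ _ => ?_
  let z := hU.fromSpec ⟨p, inferInstance⟩
  have hzU : z ∈ U := hU.range_fromSpec.le ⟨⟨p, inferInstance⟩, rfl⟩
  let _ := TopCat.Presheaf.algebra_section_stalk X.presheaf (⟨z, hzU⟩ : U)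
  have := hU.isLocalization_stalk' ⟨p, inferInstance⟩ hzU
  haveI := (hX z).2
  exact IsIntegrallyClosed.of_equiv
    (IsLocalization.algEquiv p.primeCompl (X.presheaf.stalk z) (Localization.AtPrime p)).toRingEquiv

theorem isReduced_of_normal (hY : Pi1.IsNormalScheme Y) : AlgebraicGeometry.IsReduced Y :=
  haveI : ∀ y : Y, _root_.IsReduced (Y.presheaf.stalk y) := fun y => by
    haveI := (hY y).1
    infer_instance
  isReduced_of_isReduced_stalk Y

/-- A function vanishing on a dense open of a reduced scheme vanishes. -/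
theorem eq_zero_of_dense [AlgebraicGeometry.IsReduced Y] {P W : Y.Opens} (hW : Dense (W : Set Y)) (z : Γ(Y, P))
    (h : Y.presheaf.map (homOfLE (inf_le_left : P ⊓ W ≤ P)).op z = 0) : z = 0 := by
  rw [← basicOpen_eq_bot_iff]
  by_contra hne
  obtain ⟨y, hy⟩ : (Y.basicOpen z : Set Y).Nonempty := by
    rw [Set.nonempty_iff_ne_empty]
    exact fun h => hne (Opens.ext h)
  obtain ⟨y', hy', hyW⟩ := hW.inter_open_nonempty _ (Y.basicOpen z).2 ⟨y, hy⟩
  have h1 : y' ∈ Y.basicOpen (Y.presheaf.map (homOfLE (inf_le_left : P ⊓ W ≤ P)).op z) := by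
    rw [Scheme.basicOpen_res]
    exact ⟨⟨Y.basicOpen_le z hy', hyW⟩, hy'⟩
  rw [h, Scheme.basicOpen_zero] at h1
  exact h1

variable {L : X.Modules} {N : ℕ}

theorem lpow_eq_pw {U : X.Opens} (e : Γ(L, U)) : ∀ n : ℕ, CycCov.lpow L U e n = TensorGen.pw L e n
  | 0 => rfl
  | n + 1 => congrArg (fun z => SecTwist.tmul (CohB1.tensorPow L n) L U z e) (lpow_eq_pw e n)

theorem cycGen {U : X.Opens} {e : Γ(L, U)} (he : InvExt.IsGen L U e) : CycCov.IsGen L U e := by
  have h := he U le_rfl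
  rw [InvExt.mres_self] at h
  exact h

variable {s : Coh.structureModule X ⟶ CohB1.tensorPow L N} {π : Y ⟶ X}

theorem val_res {U V : X.Opens} (h : V ≤ U) (e : Γ(L, U)) (f : Γ(X, U))
    (hf : SecTwist.val s U = f • CycCov.lpow L U e N) :
    SecTwist.val s V = X.presheaf.map (homOfLE h).op f • CycCov.lpow L V (mres L h e) N := by
  have h1 : mres (CohB1.tensorPow L N) h (f • (TensorGen.pw L e N)) =
      fres X h f • TensorGen.pw L (mres L h e) N := by
    rw [InvExt.mres_smul, TensorGen.mres_pw]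
  rw [lpow_eq_pw] at hf ⊢
  refine (SecTwist.map_val s (homOfLE h)).symm.trans ?_
  refine Eq.trans ?_ h1
  exact congrArg (mres (CohB1.tensorPow L N) h) hf

theorem exists_coef {U : X.Opens} {e : Γ(L, U)} (he : InvExt.IsGen L U e) :
    ∃ f : Γ(X, U), SecTwist.val s U = f • CycCov.lpow L U e N := by
  obtain ⟨f, hf⟩ := (TensorGen.isGen_pw L he N).exists_smul_eq le_rfl (SecTwist.val s U : Γ(CohB1.tensorPow L N, U))
  rw [InvExt.mres_self] at hf
  exact ⟨f, by rw [lpow_eq_pw]; exact hf⟩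

variable (R : CycCov.Root L N s π)

theorem chart_sum (U : X.affineOpens) (e : Γ(L, U.1)) (he : CycCov.IsGen L U.1 e) (f : Γ(X, U.1))
    (hf : SecTwist.val s U.1 = f • CycCov.lpow L U.1 e N) (c : Fin N → Γ(X, U.1)) :
    CycCov.chart R U e he f hf (∑ i, AdjoinRoot.of _ (c i) * AdjoinRoot.root _ ^ (i : ℕ)) =
      ∑ i, (π.app U.1).hom (c i) * R.t U e he ^ (i : ℕ) := by
  simp [CycCov.chart, map_sum]

theorem res_chart_sum (U V : X.affineOpens) (h : V.1 ≤ U.1) (e : Γ(L, U.1)) (he : InvExt.IsGen L U.1 e) (f : Γ(X, U.1))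
    (hf : SecTwist.val s U.1 = f • CycCov.lpow L U.1 e N) (c : Fin N → Γ(X, U.1)) :
    Y.presheaf.map (homOfLE (π.preimage_mono h)).op
        (CycCov.chart R U e (cycGen he) f hf (∑ i, AdjoinRoot.of _ (c i) * AdjoinRoot.root _ ^ (i : ℕ))) =
      CycCov.chart R V (mres L h e) (cycGen (he.restrict h)) _ (val_res h e f hf)
        (∑ i, AdjoinRoot.of _ (X.presheaf.map (homOfLE h).op (c i)) * AdjoinRoot.root _ ^ (i : ℕ)) := by
  rw [chart_sum, chart_sum, map_sum]
  refine Finset.sum_congr rfl fun i _ => ?_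
  rw [map_mul, map_pow]
  congr 1
  · exact (congr($(π.naturality (homOfLE h).op) (c i))).symm
  · exact congrArg (· ^ (i : ℕ)) (R.t_res U V h e (cycGen he) (cycGen (he.restrict h)))

theorem res_injective [IsIntegral X] {U V : X.Opens} (h : V ≤ U) [Nonempty V] :
    Function.Injective (X.presheaf.map (homOfLE h).op) := by
  intro a b hab
  haveI : Nonempty U := ⟨⟨_, h (Classical.arbitrary V).2⟩⟩
  obtain ⟨x, hx⟩ := (inferInstance : Nonempty V)
  refine germ_injective_of_isIntegral X x (h hx) ?_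
  have := congrArg (X.presheaf.germ V x hx) hab
  rwa [TopCat.Presheaf.germ_res_apply, TopCat.Presheaf.germ_res_apply] at this

variable [IsIntegral X]

theorem exists_affine_le {O : X.Opens} (hO : (O : Set X).Nonempty) :
    ∃ V : X.affineOpens, V.1 ≤ O ∧ Nonempty V.1 := by
  obtain ⟨x, hx⟩ := hO
  obtain ⟨V, hV, hxV, hVO⟩ := exists_isAffineOpen_mem_and_subset hx
  exact ⟨⟨V, hV⟩, hVO, ⟨⟨x, hxV⟩⟩⟩

/-- Sections over an affine open are determined over any nonempty piece. -/
theorem eq_zero_of_res (hR : CycCov.IsCover R) (hN : 0 < N) (U V : X.affineOpens) (h : V.1 ≤ U.1) [Nonempty V.1]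
    (e : Γ(L, U.1)) (he : InvExt.IsGen L U.1 e) (z : Γ(Y, π ⁻¹ᵁ U.1))
    (hz : Y.presheaf.map (homOfLE (π.preimage_mono h)).op z = 0) : z = 0 := by
  obtain ⟨-, hY, W, hWd, hWd', hchart⟩ := hR
  haveI := isReduced_of_normal hY
  obtain ⟨f, hf⟩ := exists_coef (s := s) he
  refine eq_zero_of_dense hWd' z ?_
  refine TopCat.Presheaf.section_ext Y.sheaf _ _ _ fun y hy => ?_
  obtain ⟨V₀, hV₀, hyV₀, hle₀⟩ := exists_isAffineOpen_mem_and_subset (show π.base y ∈ U.1 ⊓ W from ⟨hy.1, hy.2⟩)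
  haveI : Nonempty V₀ := ⟨⟨_, hyV₀⟩⟩
  let V₀' : X.affineOpens := ⟨V₀, hV₀⟩
  have h₀ : V₀ ≤ U.1 := fun a ha => (hle₀ ha).1
  suffices hz₀ : Y.presheaf.map (homOfLE (π.preimage_mono h₀)).op z = 0 by
    have := congrArg (Y.presheaf.germ (π ⁻¹ᵁ V₀) y hyV₀) hz₀
    rw [TopCat.Presheaf.germ_res_apply, map_zero] at this
    erw [TopCat.Presheaf.germ_res_apply, map_zero]
    exact this
  obtain ⟨w, hw⟩ := (hchart V₀' (fun a ha => (hle₀ ha).2) (mres L h₀ e) (cycGen (he.restrict h₀)) _
    (val_res h₀ e f hf)).2 (Y.presheaf.map (homOfLE (π.preimage_mono h₀)).op z)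
  haveI : Nontrivial Γ(X, V₀) := inferInstance
  obtain ⟨d, rfl⟩ := exists_coord N hN _ w
  obtain ⟨V₁, hV₁, hne⟩ := exists_affine_le (O := V₀ ⊓ V.1) (nonempty_preirreducible_inter V₀.2 V.1.2
    ⟨_, hyV₀⟩ ⟨_, (Classical.arbitrary V.1).2⟩)
  have h₁ : V₁.1 ≤ V₀'.1 := fun a ha => (hV₁ ha).1
  have h₁' : V₁.1 ≤ V.1 := fun a ha => (hV₁ ha).2
  haveI := hne
  have h2 : Y.presheaf.map (homOfLE (π.preimage_mono h₁)).op
      (Y.presheaf.map (homOfLE (π.preimage_mono h₀)).op z) = 0 := by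
    rw [← CategoryTheory.comp_apply, ← Functor.map_comp]
    have := congrArg (Y.presheaf.map (homOfLE (π.preimage_mono h₁')).op) hz
    rw [← CategoryTheory.comp_apply, ← Functor.map_comp, map_zero] at this
    exact this
  rw [← hw, res_chart_sum R V₀' V₁ h₁ _ (he.restrict h₀)] at h2
  have hd : ∀ i, d i = 0 := fun i => res_injective h₁ (by
    rw [map_zero]
    exact coord_eq_zero N hN _ _ ((hchart V₁ (fun a ha => (hle₀ (h₁ ha)).2) _ _ _ _).1
      (h2.trans (map_zero _).symm)) i)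
  rw [← hw]
  simp [hd]

/-- Where the coefficient is a unit the cover is the simple cyclic cover. -/
theorem chart_bijective_of_isUnit (hX : Pi1.IsNormalScheme X) (hR : CycCov.IsCover R) (hN : 0 < N)
    (U : X.affineOpens) [Nonempty U.1] (e : Γ(L, U.1)) (he : InvExt.IsGen L U.1 e) (f : Γ(X, U.1))
    (hf : SecTwist.val s U.1 = f • CycCov.lpow L U.1 e N) (hunit : IsUnit f)
    (hNU : IsUnit (N : Γ(X, U.1))) (ζ : Γ(X, U.1))
    (hζ : IsPrimitiveRoot (X.germToFunctionField U.1 ζ) N) :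
    Function.Bijective (CycCov.chart R U e (cycGen he) f hf) := by
  have hR' := hR
  obtain ⟨hfin, hY, W, hWd, hWd', hchart⟩ := hR'
  obtain ⟨V, hV, hne⟩ := exists_affine_le (O := U.1 ⊓ W) (nonempty_preirreducible_inter U.1.2 W.2
    ⟨_, (Classical.arbitrary U.1).2⟩ hWd.nonempty)
  have hVU : V.1 ≤ U.1 := fun a ha => (hV ha).1
  haveI := hne
  have hbV := hchart V (fun a ha => (hV ha).2) (mres L hVU e) (cycGen (he.restrict hVU)) _ (val_res hVU e f hf)
  refine ⟨(injective_iff_map_eq_zero _).2 fun x hx => ?_, fun c => ?_⟩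
  · obtain ⟨d, rfl⟩ := exists_coord N hN _ x
    have h2 := congrArg (Y.presheaf.map (homOfLE (π.preimage_mono hVU)).op) hx
    rw [map_zero, res_chart_sum R U V hVU e he] at h2
    have hd : ∀ i, d i = 0 := fun i => res_injective hVU (by
      rw [map_zero]
      exact coord_eq_zero N hN _ _ (hbV.1 (h2.trans (map_zero _).symm)) i)
    simp [hd]
  · let ρ := Y.presheaf.map (homOfLE (π.preimage_mono hVU)).op
    let res := X.presheaf.map (homOfLE hVU).op
    obtain ⟨y, hy⟩ := hbV.2 (ρ c)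
    obtain ⟨b', rfl⟩ := exists_coord N hN _ y
    haveI := isIntegrallyClosed_sections hX U.2
    haveI := functionField_isFractionRing_of_isAffineOpen X U.1 U.2
    let K := X.functionField
    let γ : Γ(X, V.1) →+* K := (X.germToFunctionField V.1).hom
    have hγ : ∀ a, γ (res a) = algebraMap Γ(X, U.1) K a := fun a =>
      TopCat.Presheaf.germ_res_apply X.presheaf (homOfLE hVU) _ _ a
    let a := algebraMap Γ(X, U.1) K f
    let Φ : AdjoinRoot (Polynomial.X ^ N - C (res f)) →+* KRoot K N a :=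
      AdjoinRoot.lift ((AdjoinRoot.of _).comp γ) (AdjoinRoot.root _) (by
        rw [eval₂_sub, eval₂_X_pow, eval₂_C, root_pow_eq, RingHom.comp_apply, hγ, sub_self])
    obtain ⟨P, hPm, hP⟩ := (π.finite_app U.1 U.2).to_isIntegral c
    have hint : IsIntegral Γ(X, U.1) (∑ i, AdjoinRoot.of (Polynomial.X ^ N - C a) (γ (b' i)) *
        AdjoinRoot.root _ ^ (i : ℕ)) := by
      refine ⟨P, hPm, ?_⟩
      have h2 : P.eval₂ ((AdjoinRoot.of (Polynomial.X ^ N - C (res f))).comp res.hom)
          (∑ i, AdjoinRoot.of _ (b' i) * AdjoinRoot.root _ ^ (i : ℕ)) = 0 := by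
        refine hbV.1 ?_
        rw [map_zero, Polynomial.hom_eval₂, hy]
        have h3 : (CycCov.chart R V (mres L hVU e) (cycGen (he.restrict hVU)) _ (val_res hVU e f hf)).comp
            ((AdjoinRoot.of (Polynomial.X ^ N - C (res f))).comp res.hom) = ρ.hom.comp (π.app U.1).hom := by
          refine RingHom.ext fun x => ?_
          have hof : ∀ z, CycCov.chart R V (mres L hVU e) (cycGen (he.restrict hVU)) _ (val_res hVU e f hf)
              (AdjoinRoot.of _ z) = (π.app V.1).hom z := fun z => by simp [CycCov.chart]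
          refine (hof _).trans ?_
          exact congr($(π.naturality (homOfLE hVU).op) x)
        rw [h3]
        exact (Polynomial.hom_eval₂ P _ ρ.hom c).symm.trans ((congrArg _ hP).trans (map_zero _))
      have h4 := congrArg Φ h2
      rw [map_zero, Polynomial.hom_eval₂] at h4
      refine Eq.trans ?_ h4
      congr 1
      · refine RingHom.ext fun x => ?_
        simp [Φ, hγ, IsScalarTower.algebraMap_apply Γ(X, U.1) K (KRoot K N a), AdjoinRoot.algebraMap_eq]
      · simp [Φ, map_sum]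
    have hb' : ∀ i, ∃ a' : Γ(X, U.1), res a' = b' i := fun i => by
      obtain ⟨b, hb⟩ := exists_eq_pow_mul hN hNU ζ hζ f (fun i => γ (b' i)) hint i
      obtain ⟨v, rfl⟩ := hunit
      have hpow : γ (b' i) ^ N = algebraMap Γ(X, U.1) K (b * ((v⁻¹ : (Γ(X, U.1))ˣ) : Γ(X, U.1)) ^ (i : ℕ)) := by
        rw [map_mul, map_pow, hb, mul_assoc, ← mul_pow, ← map_mul, Units.mul_inv, map_one, one_pow, mul_one]
      obtain ⟨a', ha'⟩ := IsIntegrallyClosed.algebraMap_eq_of_integral
        (IsIntegral.of_pow hN (hpow ▸ isIntegral_algebraMap) : IsIntegral Γ(X, U.1) (γ (b' i)))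
      exact ⟨a', germ_injective_of_isIntegral X _ _ ((hγ a').trans ha')⟩
    choose a' ha' using hb'
    refine ⟨∑ i, AdjoinRoot.of _ (a' i) * AdjoinRoot.root _ ^ (i : ℕ), ?_⟩
    refine sub_eq_zero.1 (eq_zero_of_res R hR hN U V hVU e he _ ?_)
    rw [map_sub, res_chart_sum R U V hVU e he]
    refine sub_eq_zero.2 (Eq.trans (congrArg _ ?_) hy)
    exact Finset.sum_congr rfl fun i _ => by rw [← ha' i]

end GrothLib.CycNorm12
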